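import Groth.Agent.WittExt.Section
import Groth.Agent.WittLib.Obstruction

/-! Extensions of Witt groups by Witt groups of length one, and dually. -/

set_option autoImplicit false
universe u

open CategoryTheory CategoryTheory.Limits AlgebraicGeometry MonoidalCategory CartesianMonoidalCategory MonObj

namespace Groth.Agent.WittExt.Main

open Groth.Agent.WittLib.Basic Groth.Agent.WittLib.Factor Groth.Agent.WittLib.Endo
  Groth.Agent.WittLib.Killed Groth.Agent.WittExt.Cocycle Groth.Agent.WittExt.Classify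

variable {p : ℕ} [hp : Fact p.Prime] {k : Type u} [Field k]

local notation "Sk" => Spec (CommRingCat.of k)

section Ext

variable {Q E : Over (Spec (CommRingCat.of k))} [GrpObj Q] [GrpObj E] [IsCommMonObj E] {n : ℕ}
  (i : WittGrp.W p n (Spec (CommRingCat.of k)) ⟶ E) [IsMonHom i] [IsClosedImmersion i.left]
  (π : E ⟶ Q) [IsMonHom π]

lemma mono_i : Mono i :=
  haveI : Mono i.left := inferInstance
  Over.mono_of_mono_left i

lemma exists_lift_kernel (hker : AlgGrp.IsKernel i π) {T : Over Sk} (x : T ⟶ E) (hx : x ≫ π = 1) :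
    ∃ z, z ≫ i = x :=
  ⟨hker.lift x (toUnit T) (by rw [hx, Hom.one_def]), hker.lift_fst _ _ _⟩

omit [IsCommMonObj E] [IsMonHom i] [IsClosedImmersion i.left] [IsMonHom π] in
lemma comp_eq_one (hker : AlgGrp.IsKernel i π) : i ≫ π = 1 := by rw [hker.w, Hom.one_def]

variable [IsCommMonObj Q]

/-- A cocycle of a split-as-schemes extension. -/
lemma exists_cocycle (hker : AlgGrp.IsKernel i π) (s : Q ⟶ E) (hs : s ≫ π = 𝟙 Q) :
    ∃ c : Q ⊗ Q ⟶ WittGrp.W p n Sk, IsCoc c ∧ ∀ (T : Over Sk) (x y : T ⟶ Q),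
      (x ≫ s) * (y ≫ s) = ((x * y) ≫ s) * (ev2 c x y ≫ i) := by
  haveI := mono_i i
  obtain ⟨c, hc⟩ := exists_lift_kernel i π hker
    (((fst Q Q ≫ s) * (snd Q Q ≫ s)) * ((fst Q Q * snd Q Q) ≫ s)⁻¹)
    (by simp only [MonObj.mul_comp, GrpObj.inv_comp, Category.assoc, hs, Category.comp_id, mul_inv_cancel])
  have hv : ∀ (T : Over Sk) (x y : T ⟶ Q),
      (x ≫ s) * (y ≫ s) = ((x * y) ≫ s) * (ev2 c x y ≫ i) := by
    intro T x y
    rw [ev2, Category.assoc, hc, MonObj.comp_mul, GrpObj.comp_inv, MonObj.comp_mul, ← Category.assoc,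
      ← Category.assoc, ← Category.assoc, MonObj.comp_mul, lift_fst, lift_snd, _root_.mul_comm _ (_⁻¹),
      mul_inv_cancel_left]
  refine ⟨c, ⟨fun T x y => ?_, fun T x y z => ?_⟩, hv⟩
  · rw [← cancel_mono i]
    apply mul_left_cancel (a := (x * y) ≫ s)
    rw [← hv, _root_.mul_comm x y, ← hv, _root_.mul_comm]
  · rw [← cancel_mono i, MonObj.mul_comp, MonObj.mul_comp]
    apply mul_left_cancel (a := (x * y * z) ≫ s)
    have e1 : (x ≫ s) * (y ≫ s) * (z ≫ s) =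
        ((x * y * z) ≫ s) * ((ev2 c x y ≫ i) * (ev2 c (x * y) z ≫ i)) := by
      rw [hv T x y, mul_right_comm, hv T (x * y) z, _root_.mul_assoc,
        _root_.mul_comm (ev2 c (x * y) z ≫ i)]
    have e2 : (x ≫ s) * (y ≫ s) * (z ≫ s) =
        ((x * y * z) ≫ s) * ((ev2 c x (y * z) ≫ i) * (ev2 c y z ≫ i)) := by
      rw [_root_.mul_assoc (x ≫ s), hv T y z, ← _root_.mul_assoc, hv T x (y * z), _root_.mul_assoc,
        _root_.mul_assoc x y z]
    exact e1.symm.trans e2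

/-- Change the section so that the cocycle is a given cohomologous one. -/
lemma exists_section_coh (hker : AlgGrp.IsKernel i π) (s : Q ⟶ E) (hs : s ≫ π = 𝟙 Q)
    {c c' : Q ⊗ Q ⟶ WittGrp.W p n Sk} (h : Coh c c')
    (hv : ∀ (T : Over Sk) (x y : T ⟶ Q), (x ≫ s) * (y ≫ s) = ((x * y) ≫ s) * (ev2 c x y ≫ i)) :
    ∃ s' : Q ⟶ E, s' ≫ π = 𝟙 Q ∧ ∀ (T : Over Sk) (x y : T ⟶ Q),
      (x ≫ s') * (y ≫ s') = ((x * y) ≫ s') * (ev2 c' x y ≫ i) := by
  obtain ⟨g, hg⟩ := h
  refine ⟨s * (g ≫ i)⁻¹, ?_, fun T x y => ?_⟩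
  · rw [MonObj.mul_comp, GrpObj.inv_comp, Category.assoc, comp_eq_one i π hker, MonObj.comp_one,
      inv_one, _root_.mul_one, hs]
  · simp only [MonObj.comp_mul, GrpObj.comp_inv, ← Category.assoc]
    have hc' : ev2 c' x y = ev2 c x y * ((x * y) ≫ g) * ((x ≫ g) * (y ≫ g))⁻¹ := by
      rw [hg, mul_inv_cancel_right]
    rw [hc', mul_mul_mul_comm_root, hv, MonObj.mul_comp _ _ i, MonObj.mul_comp _ _ i,
      GrpObj.inv_comp _ i, MonObj.mul_comp _ _ i, ← mul_inv]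
    calc ((x * y) ≫ s) * (ev2 c x y ≫ i) * (((x ≫ g) ≫ i) * ((y ≫ g) ≫ i))⁻¹
        = ((x * y) ≫ s) * (ev2 c x y ≫ i) * (((x ≫ g) ≫ i) * ((y ≫ g) ≫ i))⁻¹ *
            ((((x * y) ≫ g) ≫ i)⁻¹ * (((x * y) ≫ g) ≫ i)) := by rw [inv_mul_cancel, _root_.mul_one]
      _ = _ := by ac_rfl
where
  mul_mul_mul_comm_root {T : Over Sk} {a b c d : T ⟶ E} : a * b * (c * d) = a * c * (b * d) :=
    _root_.mul_mul_mul_comm a b c d

end Ext

variable [CharP k p] [IsAlgClosed k] {E : Over (Spec (CommRingCat.of k))} [GrpObj E] [IsCommMonObj E]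
  [QuasiCompact E.hom] {n m : ℕ}

set_option backward.isDefEq.respectTransparency.types false in
lemma exists_section' {a b : ℕ} (i : WittGrp.W p b Sk ⟶ E) [IsMonHom i] [IsClosedImmersion i.left]
    (π : E ⟶ WittGrp.W p a Sk) [IsMonHom π] [Surjective π.left] [Flat π.left]
    (hker : AlgGrp.IsKernel i π) : ∃ s : WittGrp.W p a Sk ⟶ E, s ≫ π = 𝟙 _ := by
  haveI := mono_i i
  haveI : IsAffine (WittGrp.W p a Sk).left := isAffine_of_isAffineHom (WittGrp.W p a Sk).hom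
  haveI := Section.isAffine_left π i hker
  exact Section.exists_section π i hker

section Top

variable (i : WittGrp.W p 1 (Spec (CommRingCat.of k)) ⟶ E) [IsMonHom i] [IsClosedImmersion i.left]
  (π : E ⟶ WittGrp.W p n (Spec (CommRingCat.of k))) [IsMonHom π] [Surjective π.left] [Flat π.left]

/-- The extension in standard form. -/
theorem top_form (hn : 1 ≤ n) (hker : AlgGrp.IsKernel i π) :
    ∃ (M : ℕ) (a : ℕ → k) (s : WittGrp.W p n Sk ⟶ E), s ≫ π = 𝟙 _ ∧
      ∀ (T : Over Sk) (x y : T ⟶ WittGrp.W p n Sk),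
        (x ≫ s) * (y ≫ s) = ((x * y) ≫ s) * (ev2 (cW (p := p) n ≫ lin p 1 M a) x y ≫ i) := by
  obtain ⟨s, hs⟩ := exists_section' i π hker
  obtain ⟨c, hc, hv⟩ := exists_cocycle i π hker s hs
  obtain ⟨M, a, h⟩ := exists_coh_top hn c hc
  exact ⟨M, a, exists_section_coh i π hker s hs h hv⟩

theorem exists_pushout (hn : 1 ≤ n) (hker : AlgGrp.IsKernel i π) :
    ∃! φ : WittGrp.W p 1 Sk ⟶ WittGrp.W p 1 Sk, IsMonHom φ ∧
      ∃ g : WittGrp.W p (n + 1) Sk ⟶ E, IsMonHom g ∧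
        WittGrp.V p Sk (Nat.le_add_left 1 n) ≫ g = φ ≫ i ∧
        g ≫ π = WittGrp.R p Sk (Nat.le_add_right n 1) := by
  haveI := mono_i i
  have hl : n ≤ n + 1 := Nat.le_add_right n 1
  have hv1 : 1 ≤ n + 1 := Nat.le_add_left 1 n
  obtain ⟨M, a, s, hs, hv⟩ := top_form i π hn hker
  have hw := comp_eq_one i π hker
  let g : WittGrp.W p (n + 1) Sk ⟶ E :=
    (WittGrp.R p Sk hl ≫ s) * (hi Sk (rfl : n + 1 = n + 1) ≫ lin p 1 M a ≫ i)
  have hg : IsMonHom g := isMonHom_of_points _ fun T z w => by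
    simp only [g, MonObj.comp_mul, ← Category.assoc, MonObj.mul_comp _ _ (WittGrp.R p Sk hl)]
    rw [mul_hi hl hv1 rfl, MonObj.mul_comp _ _ (lin p 1 M a), MonObj.mul_comp _ _ (lin p 1 M a),
      MonObj.mul_comp _ _ i, MonObj.mul_comp _ _ i, _root_.mul_mul_mul_comm (_ ≫ s), hv, ev2_comp]
    ac_rfl
  have hone : (1 : 𝟙_ (Over Sk) ⟶ WittGrp.W p n Sk) ≫ s = 1 := by
    have := hv _ (1 : 𝟙_ (Over Sk) ⟶ WittGrp.W p n Sk) 1
    rw [_root_.mul_one, ev2_comp, std_one hl hv1 rfl, MonObj.one_comp (lin p 1 M a), MonObj.one_comp i,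
      _root_.mul_one] at this
    exact mul_eq_left.1 this
  refine ⟨lin p 1 M a, ⟨inferInstance, g, hg, hom_ext fun T x => ?_, ?_⟩, ?_⟩
  · have e1 : (x ≫ WittGrp.V p Sk hv1) ≫ WittGrp.R p Sk hl = toUnit T ≫ 1 := by
      rw [Category.assoc, V_comp_R hl hv1 rfl, MonObj.comp_one, MonObj.comp_one]
    have e2 : (x ≫ WittGrp.V p Sk hv1) ≫ hi Sk (rfl : n + 1 = n + 1) = x := by
      have := pad_mul_V_hi hl hv1 rfl (1 : T ⟶ WittGrp.W p n Sk) x
      rwa [comp_pad_one, _root_.one_mul] at this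
    rw [← Category.assoc, MonObj.comp_mul, ← Category.assoc, e1, ← Category.assoc, e2, Category.assoc,
      hone, MonObj.comp_one, _root_.one_mul]
  · simp only [g, MonObj.mul_comp, Category.assoc, hs, hw, Category.comp_id, MonObj.comp_one,
      _root_.mul_one]
  · rintro φ ⟨hφ, g', hg', hVg', hπg'⟩
    haveI := hφ
    haveI := hg'
    haveI := hg
    haveI := isMonHom_inv g
    haveI := isMonHom_mul g' g⁻¹
    obtain ⟨d, hd⟩ := exists_lift_kernel i π hker (g' * g⁻¹) (by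
      rw [MonObj.mul_comp, GrpObj.inv_comp, hπg']
      simp only [g, MonObj.mul_comp, Category.assoc, hs, hw, Category.comp_id, MonObj.comp_one,
        _root_.mul_one, mul_inv_cancel])
    have hdm : IsMonHom d := isMonHom_of_points _ fun T x y => by
      rw [← cancel_mono i, MonObj.mul_comp (x ≫ d), Category.assoc, Category.assoc, Category.assoc, hd,
        MonObj.mul_comp]
    haveI := hdm
    obtain ⟨N, b, rfl⟩ := exists_hom_to_W_one (Nat.le_add_left 1 n) d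
    have hVd : WittGrp.V p Sk hv1 ≫ WittGrp.R p Sk hv1 = 1 := by
      refine hom_ext fun T x => vec_ext ?_
      rw [← Category.assoc, vec_R, vec_V, MonObj.comp_one, vec_one,
        WittLib.Isogeny.truncate_shift' _ _ (by omega)]
    have key := congrArg (fun z => WittGrp.V p Sk hv1 ≫ z) hd
    simp only [MonObj.comp_mul, GrpObj.comp_inv, hVg', Category.assoc, reassoc_of% hVd, MonObj.one_comp] at key
    have hVg : WittGrp.V p Sk hv1 ≫ g = lin p 1 M a ≫ i := by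
      refine hom_ext fun T x => ?_
      have e1 : (x ≫ WittGrp.V p Sk hv1) ≫ WittGrp.R p Sk hl = toUnit T ≫ 1 := by
        rw [Category.assoc, V_comp_R hl hv1 rfl, MonObj.comp_one, MonObj.comp_one]
      have e2 : (x ≫ WittGrp.V p Sk hv1) ≫ hi Sk (rfl : n + 1 = n + 1) = x := by
        have := pad_mul_V_hi hl hv1 rfl (1 : T ⟶ WittGrp.W p n Sk) x
        rwa [comp_pad_one, _root_.one_mul] at this
      rw [← Category.assoc, MonObj.comp_mul, ← Category.assoc, e1, ← Category.assoc, e2, Category.assoc,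
        hone, MonObj.comp_one, _root_.one_mul]
    rw [hVg, eq_comm, mul_inv_eq_one] at key
    exact (cancel_mono i).1 key

theorem exists_pullback (hn : 1 ≤ n) (hnm : n ≤ m) (hker : AlgGrp.IsKernel i π) :
    ∃ f : WittGrp.W p n Sk ⟶ WittGrp.W p m Sk, IsMonHom f ∧
      ∃ h : E ⟶ WittGrp.W p (m + 1) Sk, IsMonHom h ∧
        i ≫ h = WittGrp.V p Sk (Nat.le_add_left 1 m) ∧
        h ≫ WittGrp.R p Sk (Nat.le_add_right m 1) = π ≫ f := by
  haveI := mono_i i
  have hl : n ≤ n + 1 := Nat.le_add_right n 1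
  have hv1 : 1 ≤ n + 1 := Nat.le_add_left 1 n
  have hv2 : n + 1 ≤ m + 1 := Nat.add_le_add_right hnm 1
  obtain ⟨M, a, s, hs, hv⟩ := top_form i π hn hker
  obtain ⟨b, hb⟩ := exists_root (p := p) (k := k) (m + 1 - 1) a
  obtain ⟨r, hr⟩ := exists_lift_kernel i π hker (𝟙 E * (π ≫ s)⁻¹)
    (by rw [MonObj.mul_comp, GrpObj.inv_comp, Category.assoc, hs, Category.comp_id, Category.id_comp, mul_inv_cancel])
  have hre : ∀ {T : Over Sk} (e : T ⟶ E), e = ((e ≫ π) ≫ s) * ((e ≫ r) ≫ i) := by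
    intro T e
    rw [Category.assoc e r, hr, MonObj.comp_mul, GrpObj.comp_inv, Category.comp_id, ← Category.assoc,
      _root_.mul_comm, inv_mul_cancel_right]
  have hrmul : ∀ {T : Over Sk} (e f : T ⟶ E), (e * f) ≫ r =
      ev2 (cW (p := p) n ≫ lin p 1 M a) (e ≫ π) (f ≫ π) * ((e ≫ r) * (f ≫ r)) := by
    intro T e f
    rw [← cancel_mono i, MonObj.mul_comp _ _ i, MonObj.mul_comp _ _ i]
    apply mul_left_cancel (a := ((e * f) ≫ π) ≫ s)
    rw [← hre, MonObj.mul_comp e f π, ← _root_.mul_assoc, ← hv]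
    conv_lhs => rw [hre e, hre f]
    ac_rfl
  let f : WittGrp.W p n Sk ⟶ WittGrp.W p m Sk := WittGrp.V p Sk hnm ≫ lin p m M b
  let H : WittGrp.W p n Sk ⟶ WittGrp.W p (m + 1) Sk :=
    pad Sk hl ≫ WittGrp.V p Sk hv2 ≫ lin p (m + 1) M b
  have hV1 : WittGrp.V p Sk hv1 ≫ WittGrp.V p Sk hv2 ≫ lin p (m + 1) M b =
      lin p 1 M a ≫ WittGrp.V p Sk (Nat.le_add_left 1 m) := by
    rw [← Category.assoc, V_comp_V, V_lin, hb]
  have hH : ∀ {T : Over Sk} (x y : T ⟶ WittGrp.W p n Sk), (x ≫ H) * (y ≫ H) =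
      ((x * y) ≫ H) * (ev2 (cW (p := p) n ≫ lin p 1 M a) x y ≫ WittGrp.V p Sk (Nat.le_add_left 1 m)) := by
    intro T x y
    have key := congrArg (fun z => z ≫ WittGrp.V p Sk hv2 ≫ lin p (m + 1) M b)
      (pad_mul_pad hl hv1 rfl x y)
    simp only [MonObj.mul_comp, Category.assoc, hV1] at key
    simp only [H, ev2_comp]
    rw [Category.assoc (ev2 _ x y)]
    exact key
  let h : E ⟶ WittGrp.W p (m + 1) Sk := (π ≫ H) * (r ≫ WittGrp.V p Sk (Nat.le_add_left 1 m))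
  have hH1 : (1 : 𝟙_ (Over Sk) ⟶ WittGrp.W p n Sk) ≫ H = 1 := by
    simp only [H]
    rw [← Category.assoc, comp_pad_one, MonObj.one_comp]
  refine ⟨f, inferInstance, h, isMonHom_of_points _ fun T e e' => ?_, hom_ext fun T x => ?_, ?_⟩
  · simp only [h, MonObj.comp_mul, ← Category.assoc, MonObj.mul_comp e e' π]
    rw [hrmul, MonObj.mul_comp _ _ (WittGrp.V p Sk (Nat.le_add_left 1 m)),
      MonObj.mul_comp _ _ (WittGrp.V p Sk (Nat.le_add_left 1 m)), _root_.mul_mul_mul_comm (_ ≫ H), hH]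
    ac_rfl
  · have e1 : (x ≫ i) ≫ π = toUnit T ≫ 1 := by
      rw [Category.assoc, comp_eq_one i π hker, MonObj.comp_one, MonObj.comp_one]
    have hs1 : (1 : 𝟙_ (Over Sk) ⟶ WittGrp.W p n Sk) ≫ s = 1 := by
      have := hv _ (1 : 𝟙_ (Over Sk) ⟶ WittGrp.W p n Sk) 1
      rw [_root_.mul_one, ev2_comp, std_one hl hv1 rfl, MonObj.one_comp (lin p 1 M a), MonObj.one_comp i,
        _root_.mul_one] at this
      exact mul_eq_left.1 this
    have e2 : (x ≫ i) ≫ r = x := by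
      rw [← cancel_mono i]
      have := hre (x ≫ i)
      rw [e1, Category.assoc (toUnit T), hs1, MonObj.comp_one, _root_.one_mul] at this
      exact this.symm
    have e : (x ≫ i) ≫ h = ((x ≫ i) ≫ π) ≫ H * ((x ≫ i) ≫ r) ≫ WittGrp.V p Sk (Nat.le_add_left 1 m) := by
      simp only [h, MonObj.comp_mul, Category.assoc]
    rw [← Category.assoc, e, e1, e2, Category.assoc, hH1, MonObj.comp_one, _root_.one_mul]
  · have hVR : WittGrp.V p Sk hv2 ≫ WittGrp.R p Sk (Nat.le_add_right m 1) =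
        WittGrp.R p Sk hl ≫ WittGrp.V p Sk hnm :=
      (V_R hnm (Nat.le_succ m) hl hv2).symm
    simp only [h, H, f, MonObj.mul_comp, Category.assoc, lin_R,
      V_comp_R (p := p) (S := Sk) (Nat.le_add_right m 1) (Nat.le_add_left 1 m) rfl, MonObj.comp_one,
      _root_.mul_one, reassoc_of% hVR]
    rw [← Category.assoc (pad Sk hl), pad_R, Category.id_comp]

end Top

section Bottom

variable (i : WittGrp.W p n (Spec (CommRingCat.of k)) ⟶ E) [IsMonHom i] [IsClosedImmersion i.left]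
  (π : E ⟶ WittGrp.W p 1 (Spec (CommRingCat.of k))) [IsMonHom π] [Surjective π.left] [Flat π.left]

/-- The extension in standard form. -/
theorem bottom_form (hn : 1 ≤ n) (hker : AlgGrp.IsKernel i π) :
    ∃ (M : ℕ) (a : ℕ → k) (s : WittGrp.W p 1 Sk ⟶ E), s ≫ π = 𝟙 _ ∧
      ∀ (T : Over Sk) (x y : T ⟶ WittGrp.W p 1 Sk),
        (x ≫ s) * (y ≫ s) = ((x * y) ≫ s) *
          (ev2 (cV (p := p) n) (x ≫ lin p 1 M a) (y ≫ lin p 1 M a) ≫ i) := by
  obtain ⟨s, hs⟩ := exists_section' i π hker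
  obtain ⟨c, hc, hv⟩ := exists_cocycle i π hker s hs
  obtain ⟨M, a, h⟩ := exists_coh_bottom hn c hc
  obtain ⟨s', hs', hv'⟩ := exists_section_coh i π hker s hs h hv
  exact ⟨M, a, s', hs', fun T x y => by rw [hv', ev2_pull]⟩

theorem exists_pullback_bottom (hn : 1 ≤ n) (hker : AlgGrp.IsKernel i π) :
    ∃! ψ : WittGrp.W p 1 Sk ⟶ WittGrp.W p 1 Sk, IsMonHom ψ ∧
      ∃ h : E ⟶ WittGrp.W p (n + 1) Sk, IsMonHom h ∧
        i ≫ h = WittGrp.V p Sk (Nat.le_add_right n 1) ∧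
        h ≫ WittGrp.R p Sk (Nat.le_add_left 1 n) = π ≫ ψ := by
  haveI := mono_i i
  have hl : 1 ≤ n + 1 := Nat.le_add_left 1 n
  have hvn : n ≤ n + 1 := Nat.le_add_right n 1
  have he : 1 + n = n + 1 := Nat.add_comm 1 n
  obtain ⟨M, a, s, hs, hv⟩ := bottom_form i π hn hker
  obtain ⟨r, hr⟩ := exists_lift_kernel i π hker (𝟙 E * (π ≫ s)⁻¹)
    (by rw [MonObj.mul_comp, GrpObj.inv_comp, Category.assoc, hs, Category.comp_id, Category.id_comp, mul_inv_cancel])
  have hre : ∀ {T : Over Sk} (e : T ⟶ E), e = ((e ≫ π) ≫ s) * ((e ≫ r) ≫ i) := by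
    intro T e
    rw [Category.assoc e r, hr, MonObj.comp_mul, GrpObj.comp_inv, Category.comp_id, ← Category.assoc,
      _root_.mul_comm, inv_mul_cancel_right]
  have hrmul : ∀ {T : Over Sk} (e f : T ⟶ E), (e * f) ≫ r =
      ev2 (cV (p := p) n) ((e ≫ π) ≫ lin p 1 M a) ((f ≫ π) ≫ lin p 1 M a) * ((e ≫ r) * (f ≫ r)) := by
    intro T e f
    rw [← cancel_mono i, MonObj.mul_comp _ _ i, MonObj.mul_comp _ _ i]
    apply mul_left_cancel (a := ((e * f) ≫ π) ≫ s)
    rw [← hre, MonObj.mul_comp e f π, ← _root_.mul_assoc, ← hv]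
    conv_lhs => rw [hre e, hre f]
    ac_rfl
  have hs1 : (1 : 𝟙_ (Over Sk) ⟶ WittGrp.W p 1 Sk) ≫ s = 1 := by
    have := hv _ (1 : 𝟙_ (Over Sk) ⟶ WittGrp.W p 1 Sk) 1
    rw [_root_.mul_one, MonObj.one_comp (lin p 1 M a), std_one hl hvn he, MonObj.one_comp i, _root_.mul_one] at this
    exact mul_eq_left.1 this
  let h : E ⟶ WittGrp.W p (n + 1) Sk :=
    (π ≫ lin p 1 M a ≫ pad Sk hl) * (r ≫ WittGrp.V p Sk hvn)
  have hhom : IsMonHom h := isMonHom_of_points _ fun T e e' => by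
    simp only [h, MonObj.comp_mul, ← Category.assoc, MonObj.mul_comp e e' π,
      MonObj.mul_comp _ _ (lin p 1 M a)]
    rw [hrmul, MonObj.mul_comp _ _ (WittGrp.V p Sk hvn), MonObj.mul_comp _ _ (WittGrp.V p Sk hvn),
      _root_.mul_mul_mul_comm (_ ≫ pad Sk hl),
      pad_mul_pad hl hvn he]
    ac_rfl
  have hih : i ≫ h = WittGrp.V p Sk hvn := hom_ext fun T x => by
    have e1 : (x ≫ i) ≫ π = toUnit T ≫ 1 := by
      rw [Category.assoc, comp_eq_one i π hker, MonObj.comp_one, MonObj.comp_one]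
    have e2 : (x ≫ i) ≫ r = x := by
      rw [← cancel_mono i]
      have := hre (x ≫ i)
      rw [e1, Category.assoc (toUnit T), hs1, MonObj.comp_one, _root_.one_mul] at this
      exact this.symm
    have e : (x ≫ i) ≫ h =
        (((x ≫ i) ≫ π) ≫ lin p 1 M a) ≫ pad Sk hl * ((x ≫ i) ≫ r) ≫ WittGrp.V p Sk hvn := by
      simp only [h, MonObj.comp_mul, Category.assoc]
    rw [← Category.assoc, e, e1, e2]
    simp only [MonObj.comp_one, MonObj.one_comp, comp_pad_one, _root_.one_mul]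
  have hhR : h ≫ WittGrp.R p Sk hl = π ≫ lin p 1 M a := by
    simp only [h, MonObj.mul_comp, Category.assoc, pad_R, Category.comp_id,
      V_comp_R hl hvn he, MonObj.comp_one, _root_.mul_one]
  refine ⟨lin p 1 M a, ⟨inferInstance, h, hhom, hih, hhR⟩, ?_⟩
  rintro ψ ⟨hψ, h', hh', hih', hhR'⟩
  haveI := hψ
  haveI := hh'
  haveI := hhom
  haveI := isMonHom_inv h
  haveI := isMonHom_mul h' h⁻¹
  have hkill : ∀ {T : Over Sk} (x : T ⟶ WittGrp.W p n Sk), (x ≫ i) ≫ (h' * h⁻¹) = 1 := fun x => by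
    simp only [MonObj.comp_mul, GrpObj.comp_inv, Category.assoc, hih, hih', mul_inv_cancel]
  let D := s ≫ (h' * h⁻¹)
  have hD : IsMonHom D := isMonHom_of_points _ fun T x y => by
    have := congrArg (fun z => z ≫ (h' * h⁻¹)) (hv T x y)
    rw [MonObj.mul_comp, MonObj.mul_comp, hkill, _root_.mul_one] at this
    simp only [D, ← Category.assoc]
    exact this.symm
  haveI := hD
  haveI : IsMonHom (WittGrp.R p Sk hl ≫ D) := inferInstance
  have hp1 : D ^ p = 1 := by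
    have := MonObj.pow_comp (𝟙 (WittGrp.W p 1 Sk)) p D
    rw [Category.id_comp, pow_p_eq_one_of_W_one (natCast_eq_zero_spec k), MonObj.one_comp] at this
    exact this.symm
  have hG : (WittGrp.R p Sk hl ≫ D) ^ p ^ n = 1 := by
    obtain ⟨n', rfl⟩ : ∃ n', n = n' + 1 := ⟨n - 1, by omega⟩
    rw [← MonObj.comp_pow, pow_succ', pow_mul, hp1, one_pow, MonObj.comp_one]
  have key := WittLib.Obstruction.comp_R_one_eq_one_of_pow _ hG
  rw [Category.assoc] at key
  have hDR : D ≫ WittGrp.R p Sk hl = 1 :=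
    eq_of_R_comp hl (key.trans (MonObj.comp_one _).symm)
  simp only [D, MonObj.comp_mul, GrpObj.comp_inv, MonObj.mul_comp _ _ (WittGrp.R p Sk hl),
    GrpObj.inv_comp _ (WittGrp.R p Sk hl), Category.assoc, hhR, hhR', reassoc_of% hs] at hDR
  exact mul_inv_eq_one.1 hDR

theorem exists_pushout_bottom (hn : 1 ≤ n) (hnm : n ≤ m) (hker : AlgGrp.IsKernel i π) :
    ∃ g : WittGrp.W p m Sk ⟶ WittGrp.W p n Sk, IsMonHom g ∧
      ∃ h : WittGrp.W p (m + 1) Sk ⟶ E, IsMonHom h ∧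
        WittGrp.V p Sk (Nat.le_add_right m 1) ≫ h = g ≫ i ∧
        h ≫ π = WittGrp.R p Sk (Nat.le_add_left 1 m) := by
  haveI := mono_i i
  have hl : 1 ≤ m + 1 := Nat.le_add_left 1 m
  have hvm : m ≤ m + 1 := Nat.le_add_right m 1
  have he : 1 + m = m + 1 := Nat.add_comm 1 m
  obtain ⟨M, a, s, hs, hv⟩ := bottom_form i π hn hker
  let g : WittGrp.W p m Sk ⟶ WittGrp.W p n Sk :=
    WittGrp.R p Sk hnm ≫ lin p n M (fun j => a j ^ p ^ (n + 1 - n))
  have hcoh : Coh (pull (lin p 1 M a) (cV (p := p) n)) (cV (p := p) m ≫ g) := by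
    have h1 := coh_of_hom (p := p) (S := Sk) (Nat.le_add_left 1 n) (Nat.le_add_right n 1)
      (Nat.add_comm 1 n) (lin p (n + 1) M a) (lin p 1 M a) (lin p n M fun j => a j ^ p ^ (n + 1 - n))
      (lin_R M a _) (V_lin M a _)
    convert h1.symm using 1
    have hR : cV (p := p) (k := k) m ≫ WittGrp.R p Sk hnm = cV (p := p) n :=
      std_R _ _ _ (Nat.add_le_add_right hnm 1) hnm
    simp only [g]
    rw [← Category.assoc, hR]
  have hv' : ∀ (T : Over Sk) (x y : T ⟶ WittGrp.W p 1 Sk),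
      (x ≫ s) * (y ≫ s) = ((x * y) ≫ s) * (ev2 (pull (lin p 1 M a) (cV (p := p) n)) x y ≫ i) :=
    fun T x y => by rw [hv, ev2_pull]
  obtain ⟨t, ht, htv⟩ := exists_section_coh i π hker s hs hcoh hv'
  have hone : (1 : 𝟙_ (Over Sk) ⟶ WittGrp.W p 1 Sk) ≫ t = 1 := by
    have := htv _ (1 : 𝟙_ (Over Sk) ⟶ WittGrp.W p 1 Sk) 1
    rw [_root_.mul_one, ev2_comp, std_one hl hvm he, MonObj.one_comp g, MonObj.one_comp i,
      _root_.mul_one] at this
    exact mul_eq_left.1 this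
  let h : WittGrp.W p (m + 1) Sk ⟶ E := (WittGrp.R p Sk hl ≫ t) * (hi Sk he ≫ g ≫ i)
  refine ⟨g, inferInstance, h, isMonHom_of_points _ fun T z w => ?_, hom_ext fun T x => ?_, ?_⟩
  · simp only [h, MonObj.comp_mul, ← Category.assoc, MonObj.mul_comp _ _ (WittGrp.R p Sk hl)]
    rw [mul_hi hl hvm he, MonObj.mul_comp _ _ g, MonObj.mul_comp _ _ g, MonObj.mul_comp _ _ i,
      MonObj.mul_comp _ _ i,
      _root_.mul_mul_mul_comm (_ ≫ t), htv, ev2_comp]
    ac_rfl
  · have e1 : (x ≫ WittGrp.V p Sk hvm) ≫ WittGrp.R p Sk hl = toUnit T ≫ 1 := by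
      rw [Category.assoc, V_comp_R hl hvm he, MonObj.comp_one, MonObj.comp_one]
    have e2 : (x ≫ WittGrp.V p Sk hvm) ≫ hi Sk he = x := by
      have := pad_mul_V_hi hl hvm he (1 : T ⟶ WittGrp.W p 1 Sk) x
      rwa [comp_pad_one, _root_.one_mul] at this
    rw [← Category.assoc, MonObj.comp_mul, ← Category.assoc, e1, ← Category.assoc, e2, Category.assoc,
      hone, MonObj.comp_one, _root_.one_mul]
  · simp only [h, MonObj.mul_comp, Category.assoc, ht, comp_eq_one i π hker, Category.comp_id,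
      MonObj.comp_one, _root_.mul_one]

end Bottom

end Groth.Agent.WittExt.Main
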