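import Mathlib.RingTheory.TensorProduct.IncludeLeftSubRight
import Mathlib.RingTheory.Flat.FaithfullyFlat.Basic

/-! The Amitsur complex of a faithfully flat algebra is exact in degree one. -/

set_option autoImplicit false
universe u

open TensorProduct

namespace Groth.Agent.WittExt.Amitsur

variable (A B : Type u) [CommRing A] [CommRing B] [Algebra A B]

/-- `b ↦ 1 ⊗ b - b ⊗ 1`. -/
noncomputable def d1 : B →ₗ[A] B ⊗[A] B :=
  TensorProduct.mk A B B 1 - (TensorProduct.mk A B B).flip 1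

/-- The second differential. -/
noncomputable def d2 : B ⊗[A] B →ₗ[A] B ⊗[A] (B ⊗[A] B) :=
  TensorProduct.mk A B (B ⊗[A] B) 1 - (TensorProduct.mk A B B 1).lTensor B +
    ((TensorProduct.mk A B B).flip 1).lTensor B

variable {A B}

lemma d2_d1 (b : B) : d2 A B (d1 A B b) = 0 := by
  simp [d1, d2, tmul_sub]

theorem exact [Module.FaithfullyFlat A B] : Function.Exact (d1 A B) (d2 A B) := by
  refine Module.FaithfullyFlat.lTensor_reflects_exact A B _ _ (LinearMap.exact_iff.2 (le_antisymm ?_ ?_))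
  · intro z hz
    let h : B ⊗[A] (B ⊗[A] B) →ₗ[A] B ⊗[A] B :=
      (LinearMap.mul' A B).rTensor B ∘ₗ (TensorProduct.assoc A B B B).symm.toLinearMap
    let h2 : B ⊗[A] (B ⊗[A] (B ⊗[A] B)) →ₗ[A] B ⊗[A] (B ⊗[A] B) :=
      (LinearMap.mul' A B).rTensor (B ⊗[A] B) ∘ₗ (TensorProduct.assoc A B B (B ⊗[A] B)).symm.toLinearMap
    have key : h2 ∘ₗ (d2 A B).lTensor B + (d1 A B).lTensor B ∘ₗ h = LinearMap.id := by
      ext x y w
      simp [h, h2, d1, d2]
    have := congrArg (fun q => q z) key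
    simp only [LinearMap.add_apply, LinearMap.comp_apply, LinearMap.id_apply, LinearMap.mem_ker.1 hz,
      map_zero, zero_add] at this
    exact ⟨h z, this⟩
  · rintro _ ⟨z, rfl⟩
    rw [LinearMap.mem_ker, ← LinearMap.comp_apply, ← LinearMap.lTensor_comp,
      show d2 A B ∘ₗ d1 A B = 0 from LinearMap.ext d2_d1, LinearMap.lTensor_zero, LinearMap.zero_apply]

/-- A 1-cocycle is a coboundary. -/
theorem exists_of_cocycle [Module.FaithfullyFlat A B] {t : B ⊗[A] B} (ht : d2 A B t = 0) :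
    ∃ b : B, t = 1 ⊗ₜ b - b ⊗ₜ 1 := by
  obtain ⟨b, hb⟩ := (exact t).1 ht
  exact ⟨b, hb.symm⟩

/-- Invariant elements come from the base. -/
theorem exists_of_invariant [Module.FaithfullyFlat A B] {b : B} (hb : b ⊗ₜ[A] (1 : B) = 1 ⊗ₜ b) :
    ∃ a : A, algebraMap A B a = b :=
  (Algebra.IsEffective.of_faithfullyFlat A B b).1 (by simp [hb])

end Groth.Agent.WittExt.Amitsur
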