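import Mathlib.Algebra.Polynomial.Coeff
import Mathlib.Algebra.Polynomial.Eval.Coeff
import Mathlib.Algebra.Polynomial.BigOperators
import Mathlib.Data.Nat.Choose.Lucas
import Mathlib.Data.Nat.Choose.Dvd
import Mathlib.Algebra.CharP.Basic
import Mathlib.Tactic.LinearCombination
import Mathlib.Tactic.FieldSimp
import Mathlib.Tactic.Ring

/-! Symmetric polynomial 2-cocycles of the additive group in characteristic `p` (Lazard). -/

set_option autoImplicit false
universe u

namespace Groth.Agent.WittExt.Lazard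

variable {p : ℕ} [hp : Fact p.Prime]

lemma choose_pow_modEq (u a : ℕ) : a.choose (p ^ u) ≡ a / p ^ u [MOD p] := by
  induction u generalizing a with
  | zero => simp [Nat.ModEq]
  | succ u ih =>
    refine Choose.choose_modEq_choose_mod_mul_choose_div_nat.trans ?_
    rw [Nat.pow_succ', Nat.mul_mod_right, Nat.choose_zero_right, Nat.one_mul,
      Nat.mul_div_cancel_left _ hp.out.pos, ← Nat.div_div_eq_div_mul]
    exact ih (a / p)

lemma choose_pow_ne_zero {k : Type u} [Field k] [CharP k p] {u a : ℕ} (h : ¬ p ∣ a / p ^ u) :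
    (a.choose (p ^ u) : k) ≠ 0 := by
  rw [Ne, CharP.cast_eq_zero_iff k p]
  exact fun hd => h (((choose_pow_modEq u a).dvd_iff dvd_rfl).1 hd)

lemma exists_pow_mul {n : ℕ} (hn : n ≠ 0) : ∃ v r, ¬ p ∣ r ∧ n = p ^ v * r :=
  Nat.exists_eq_pow_mul_and_not_dvd hn p hp.out.one_lt.ne'

variable {k : Type u} [Field k]

/-- The identities satisfied by the coefficients of a symmetric cocycle. -/
structure IsCoc (a : ℕ → ℕ → k) : Prop where
  symm : ∀ i j, a i j = a j i
  rel : ∀ i j l, a (i + j) l * ((i + j).choose j : k) + (if l = 0 then a i j else 0) =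
    a i (j + l) * ((j + l).choose j : k) + (if i = 0 then a j l else 0)

lemma IsCoc.zero_right {a : ℕ → ℕ → k} (h : IsCoc a) {i : ℕ} (hi : i ≠ 0) : a i 0 = 0 := by
  have := h.rel i 0 0
  simp only [Nat.add_zero, Nat.choose_zero_right, Nat.cast_one, _root_.mul_one, if_pos, if_neg hi,
    if_true] at this
  simpa using this

variable [CharP k p]

/-- A cocycle vanishing at the pivots vanishes. -/
theorem IsCoc.eq_zero {a : ℕ → ℕ → k} (h : IsCoc a) (h00 : a 0 0 = 0)
    (hpow : ∀ s, a (p ^ s) (p ^ (s + 1) - p ^ s) = 0)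
    (hmul : ∀ s r, ¬ p ∣ r → 1 < r → a (p ^ s) (p ^ s * r - p ^ s) = 0) :
    ∀ i j, a i j = 0 := by
  have step : ∀ K l w, l ≠ 0 → a (p ^ w) (K + l - p ^ w) = 0 → ¬ p ∣ K / p ^ w → a K l = 0 := by
    intro K l w hl h0 hd
    have hle : p ^ w ≤ K := by
      by_contra hlt
      exact hd (by rw [Nat.div_eq_of_lt (by omega)]; exact dvd_zero p)
    have hr := h.rel (p ^ w) (K - p ^ w) l
    rw [show p ^ w + (K - p ^ w) = K by omega, show K - p ^ w + l = K + l - p ^ w by omega, h0,
      if_neg hl, if_neg (pow_ne_zero _ hp.out.ne_zero), zero_mul, add_zero, add_zero,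
      Nat.choose_symm hle] at hr
    exact (mul_eq_zero.1 hr).resolve_right (choose_pow_ne_zero hd)
  have hpivot : ∀ t N, p ^ t < N → a (p ^ t) (N - p ^ t) = 0 := by
    intro t N ht
    have hp0 := hp.out.pos
    have hp2 := hp.out.two_le
    have hsymm : ∀ w, a (p ^ w) (N - p ^ w) = 0 → ¬ p ∣ (N - p ^ t) / p ^ w →
        a (p ^ t) (N - p ^ t) = 0 := fun w h0 hd => by
      rw [h.symm]
      exact step _ _ w (pow_ne_zero _ hp.out.ne_zero)
        (by rwa [show N - p ^ t + p ^ t - p ^ w = N - p ^ w by omega]) hd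
    obtain ⟨s, r, hr, rfl⟩ := exists_pow_mul (p := p) (n := N) (by omega)
    rcases Nat.lt_or_ge 1 r with hr1 | hr1
    · have hs : a (p ^ s) (p ^ s * r - p ^ s) = 0 := hmul s r hr hr1
      have hgt : ∀ w, s < w → p ^ w < p ^ s * r → a (p ^ w) (p ^ s * r - p ^ w) = 0 := by
        intro w hw hlt
        obtain ⟨c, rfl⟩ : ∃ c, w = s + 1 + c := ⟨w - (s + 1), by omega⟩
        rw [h.symm]
        refine step _ _ s (pow_ne_zero _ hp.out.ne_zero)
          (by rwa [Nat.sub_add_cancel hlt.le]) ?_
        rw [show p ^ (s + 1 + c) = p ^ s * (p * p ^ c) by ring, ← Nat.mul_sub,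
          Nat.mul_div_cancel_left _ (pow_pos hp0 s)]
        have hlt' : p * p ^ c ≤ r := by
          have : p ^ s * (p * p ^ c) < p ^ s * r := by
            calc p ^ s * (p * p ^ c) = p ^ (s + 1 + c) := by ring
              _ < p ^ s * r := hlt
          exact (Nat.lt_of_mul_lt_mul_left this).le
        intro hd
        apply hr
        have := (Nat.dvd_add hd (dvd_mul_right p (p ^ c)))
        rwa [Nat.sub_add_cancel hlt'] at this
      rcases lt_trichotomy t s with hts | rfl | hts
      · have hrem : p ^ s - p ^ t < p ^ s := Nat.sub_lt (pow_pos hp0 s) (pow_pos hp0 t)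
        have hts' : p ^ t ≤ p ^ s := Nat.pow_le_pow_right hp0 hts.le
        by_cases hd : p ∣ r - 1
        · obtain ⟨w, r', hr', hw⟩ := exists_pow_mul (p := p) (n := r - 1) (by omega)
          have hw0 : w ≠ 0 := by rintro rfl; rw [pow_zero, Nat.one_mul] at hw; exact hr' (hw ▸ hd)
          have hr'0 : 1 ≤ r' := Nat.pos_of_ne_zero fun h0 => hr' (h0 ▸ dvd_zero p)
          have e : p ^ s * r = p ^ (s + w) * r' + p ^ s := by
            rw [pow_add, Nat.mul_assoc, ← hw]
            conv_lhs => rw [show r = (r - 1) + 1 by omega]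
            rw [Nat.mul_add, Nat.mul_one]
          have hlt : p ^ (s + w) < p ^ s * r := by
            rw [e]
            have : p ^ (s + w) ≤ p ^ (s + w) * r' := Nat.le_mul_of_pos_right _ hr'0
            omega
          refine hsymm (s + w) (hgt _ (by omega) hlt) ?_
          rw [e, Nat.add_sub_assoc hts', Nat.mul_add_div (pow_pos hp0 _),
            Nat.div_eq_of_lt (lt_of_lt_of_le hrem (Nat.pow_le_pow_right hp0 (by omega))), Nat.add_zero]
          exact hr'
        · refine hsymm s hs ?_
          have e : p ^ s * r = p ^ s * (r - 1) + p ^ s := by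
            conv_lhs => rw [show r = (r - 1) + 1 by omega]
            rw [Nat.mul_add, Nat.mul_one]
          rw [e, Nat.add_sub_assoc hts', Nat.mul_add_div (pow_pos hp0 _), Nat.div_eq_of_lt hrem,
            Nat.add_zero]
          exact hd
      · exact hs
      · exact hgt t hts ht
    · obtain rfl : r = 1 := by
        rcases Nat.eq_zero_or_pos r with rfl | h
        · exact absurd (dvd_zero p) hr
        · omega
      rw [Nat.mul_one] at *
      have hts : t < s := (Nat.pow_lt_pow_iff_right hp.out.one_lt).1 ht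
      obtain ⟨s, rfl⟩ : ∃ s', s = s' + 1 := ⟨s - 1, by omega⟩
      refine hsymm s (hpow s) ?_
      have hle : p ^ t ≤ p ^ s := Nat.pow_le_pow_right hp0 (by omega)
      have e : p ^ (s + 1) = p ^ s * (p - 1) + p ^ s := by
        rw [pow_succ]
        conv_lhs => rw [show p = (p - 1) + 1 by omega]
        rw [Nat.mul_add, Nat.mul_one]
        congr 2 <;> (congr 1; omega)
      rw [e, Nat.add_sub_assoc hle, Nat.mul_add_div (pow_pos hp0 _),
        Nat.div_eq_of_lt (Nat.sub_lt (pow_pos hp0 s) (pow_pos hp0 t)), Nat.add_zero]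
      exact Nat.not_dvd_of_pos_of_lt (by omega) (by omega)
  intro i j
  rcases Nat.eq_zero_or_pos i with rfl | hi
  · rcases Nat.eq_zero_or_pos j with rfl | hj
    · exact h00
    · rw [h.symm]; exact h.zero_right hj.ne'
  rcases Nat.eq_zero_or_pos j with rfl | hj
  · exact h.zero_right hi.ne'
  obtain ⟨v, r, hr, rfl⟩ := exists_pow_mul (p := p) (n := i) hi.ne'
  have hr0 : 1 ≤ r := Nat.pos_of_ne_zero fun h0 => hr (h0 ▸ dvd_zero p)
  have hle : p ^ v ≤ p ^ v * r := Nat.le_mul_of_pos_right _ hr0
  refine step _ _ v hj.ne' (hpivot v _ (by omega)) ?_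
  rwa [Nat.mul_div_cancel_left _ (pow_pos hp.out.pos v)]

section Poly

open Polynomial

/-- Evaluation of a polynomial in two variables. -/
noncomputable abbrev ev {R : Type*} [CommRing R] (φ : k →+* R) (u v : R) : k[X][X] →+* R :=
  eval₂RingHom (eval₂RingHom φ u) v

/-- The coefficient of `x^i y^j`. -/
noncomputable def cf (f : k[X][X]) (i j : ℕ) : k := (f.coeff j).coeff i

omit [CharP k p] in
theorem ext_cf {f g : k[X][X]} (h : ∀ i j, cf f i j = cf g i j) : f = g :=
  Polynomial.ext fun j => Polynomial.ext fun i => h i j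

omit [CharP k p] in
lemma ev_monomial {R : Type*} [CommRing R] (φ : k →+* R) (u v : R) (a b : ℕ) (c : k) :
    ev φ u v (monomial b (monomial a c)) = φ c * u ^ a * v ^ b := by
  simp [ev]

omit [CharP k p] in
lemma induction_mono {P : k[X][X] → Prop} (hadd : ∀ f g, P f → P g → P (f + g))
    (hmono : ∀ a b c, P (monomial b (monomial a c))) (f : k[X][X]) : P f := by
  induction f using Polynomial.induction_on' with
  | add f g hf hg => exact hadd f g hf hg
  | monomial b q =>
    induction q using Polynomial.induction_on' with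
    | add q r hq hr => rw [map_add]; exact hadd _ _ hq hr
    | monomial a c => exact hmono a b c

omit [CharP k p] in
/-- Coefficient identities from the cocycle identity of polynomials. -/
theorem isCoc_cf (f : k[X][X])
    (hs : ev (C.comp C) (X : k[X][X]) (C X) f = f)
    (hc : ev (C.comp (C.comp C)) (C (C (X : k[X]))) (C X) f +
        ev (C.comp (C.comp C)) (C (C (X : k[X])) + C X) X f =
      ev (C.comp (C.comp C)) (C (C (X : k[X]))) (C X + X) f +
        ev (C.comp (C.comp C)) (C (X : k[X][X])) X f) : IsCoc (cf f) := by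
  constructor
  · intro i j
    have key : ∀ (f : k[X][X]) i j, cf (ev (C.comp C) (X : k[X][X]) (C X) f) i j = cf f j i := by
      intro f
      induction f using induction_mono with
      | hadd f g hf hg => intro i j; simp only [map_add, cf, coeff_add]; exact congrArg₂ _ (hf i j) (hg i j)
      | hmono a b c =>
        intro i j
        rw [ev_monomial, RingHom.comp_apply, ← map_pow C, mul_right_comm, ← map_mul C, cf, cf,
          coeff_C_mul_X_pow, coeff_monomial]
        by_cases h1 : j = a <;> by_cases h2 : i = b <;>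
          simp [h1, h2, coeff_monomial, Ne.symm, coeff_X_pow, eq_comm]
    conv_lhs => rw [← hs]
    exact key f i j
  · intro i j l
    let κ : k[X][X][X] → k := fun g => ((g.coeff l).coeff j).coeff i
    have k1 : ∀ f : k[X][X], κ (ev (C.comp (C.comp C)) (C (C (X : k[X]))) (C X) f) =
        if l = 0 then cf f i j else 0 := by
      intro f
      induction f using induction_mono with
      | hadd f g hf hg =>
        simp only [κ, map_add, coeff_add] at hf hg ⊢
        rw [hf, hg]
        split_ifs <;> simp [cf]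
      | hmono a b c =>
        simp only [κ, cf, ev_monomial, RingHom.comp_apply, ← map_pow C, ← map_mul C, coeff_C]
        split_ifs with h
        · rw [coeff_C_mul_X_pow, coeff_monomial]
          by_cases h1 : j = b <;> by_cases h2 : i = a <;> simp [h1, h2, coeff_monomial, eq_comm]
        · simp
    have k2 : ∀ f : k[X][X], κ (ev (C.comp (C.comp C)) (C (C (X : k[X])) + C X) X f) =
        cf f (i + j) l * ((i + j).choose j : k) := by
      intro f
      induction f using induction_mono with
      | hadd f g hf hg =>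
        simp only [κ, map_add, coeff_add] at hf hg ⊢
        rw [hf, hg, cf, cf, cf, coeff_add, coeff_add, add_mul]
      | hmono a b c =>
        simp only [κ, cf, ev_monomial, RingHom.comp_apply, ← map_add C, ← map_pow C, ← map_mul C,
          coeff_C_mul_X_pow, coeff_monomial]
        by_cases h1 : l = b
        · rw [if_pos h1, if_pos h1.symm, coeff_C_mul, add_comm (C (X : k[X])), coeff_X_add_C_pow]
          rw [← Polynomial.C_eq_natCast, coeff_C_mul, coeff_mul_C, coeff_X_pow, coeff_monomial]
          by_cases h2 : a = i + j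
          · subst h2; simp
          · rw [if_neg h2, zero_mul]
            by_cases h3 : i = a - j
            · rw [Nat.choose_eq_zero_of_lt (by omega)]; simp
            · simp [h3]
        · rw [if_neg h1, if_neg (Ne.symm h1)]; simp
    have k3 : ∀ f : k[X][X], κ (ev (C.comp (C.comp C)) (C (C (X : k[X]))) (C X + X) f) =
        cf f i (j + l) * ((j + l).choose j : k) := by
      intro f
      induction f using induction_mono with
      | hadd f g hf hg =>
        simp only [κ, map_add, coeff_add] at hf hg ⊢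
        rw [hf, hg, cf, cf, cf, coeff_add, coeff_add, add_mul]
      | hmono a b c =>
        simp only [κ, cf, ev_monomial, RingHom.comp_apply, ← map_pow C, ← map_mul C,
          add_comm (C (X : k[X][X])), coeff_C_mul, coeff_X_add_C_pow, coeff_monomial]
        rw [← Polynomial.C_eq_natCast, coeff_mul_C, coeff_X_pow]
        by_cases h2 : b = j + l
        · subst h2
          rw [if_pos rfl, if_pos (by omega)]
          simp only [coeff_monomial, coeff_mul_C, coeff_C_mul, coeff_X_pow, ← Polynomial.C_eq_natCast]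
          rw [Nat.add_comm j l, Nat.choose_symm_add]
          by_cases h1 : i = a <;> simp [h1, eq_comm]
        · rw [if_neg h2]
          by_cases h3 : j = b - l
          · rw [Nat.choose_eq_zero_of_lt (by omega)]; simp
          · simp [h3]
    have k4 : ∀ f : k[X][X], κ (ev (C.comp (C.comp C)) (C (X : k[X][X])) X f) =
        if i = 0 then cf f j l else 0 := by
      intro f
      induction f using induction_mono with
      | hadd f g hf hg =>
        simp only [κ, map_add, coeff_add] at hf hg ⊢
        rw [hf, hg]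
        split_ifs <;> simp [cf]
      | hmono a b c =>
        simp only [κ, cf, ev_monomial, RingHom.comp_apply, ← map_pow C, ← map_mul C,
          coeff_C_mul_X_pow, coeff_monomial]
        by_cases h1 : l = b <;> by_cases h2 : j = a <;> by_cases h3 : i = 0 <;>
          simp [h1, h2, h3, coeff_C, coeff_monomial, coeff_X_pow, eq_comm]
    have := congrArg κ hc
    simp only [κ, coeff_add] at this
    simp only [κ] at k1 k2 k3 k4
    rw [k1, k2, k3, k4] at this
    linear_combination this

/-- `g(x) + g(y) - g(x+y)`. -/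
noncomputable def dP (g : k[X]) : k[X][X] :=
  C g + g.map C - g.eval₂ (C.comp C) (C X + X)

/-- The Witt cocycle as a polynomial. -/
noncomputable def omegaP (p : ℕ) (k : Type u) [Field k] : k[X][X] :=
  -∑ i ∈ Finset.Ico 1 p, C (C (((p.choose i / p : ℕ) : k)) * X ^ i) * X ^ (p - i)

omit [CharP k p] in
lemma cf_dP (g : k[X]) (i j : ℕ) :
    cf (dP g) i j = (if j = 0 then g.coeff i else 0) + (if i = 0 then g.coeff j else 0) -
      g.coeff (i + j) * ((i + j).choose j : k) := by
  induction g using Polynomial.induction_on' with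
  | add a b ha hb =>
    have e : dP (a + b) = dP a + dP b := by simp only [dP, map_add, Polynomial.map_add, eval₂_add]; ring
    simp only [cf] at ha hb ⊢
    rw [e, coeff_add, coeff_add, ha, hb, coeff_add, coeff_add, coeff_add]
    split_ifs <;> ring
  | monomial n c =>
    simp only [cf, dP, Polynomial.map_monomial, eval₂_monomial, coeff_sub, coeff_add, coeff_C,
      coeff_monomial, RingHom.comp_apply, coeff_C_mul, add_comm (C (X : k[X])), coeff_X_add_C_pow]
    rw [← Polynomial.C_eq_natCast, coeff_mul_C, coeff_X_pow]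
    congr 1
    · split_ifs <;> simp_all [coeff_monomial, coeff_C]
    · by_cases h : n = i + j
      · subst h; simp
      · rw [if_neg h, zero_mul]
        by_cases h3 : i = n - j
        · rw [Nat.choose_eq_zero_of_lt (by omega)]; simp
        · simp [h3]

omit [CharP k p] in
/-- The coefficients of `ω(x^q, y^q)`. -/
lemma cf_omega_pow (q : ℕ) (hq : 0 < q) (i j : ℕ) :
    cf (ev (C.comp C) (C (X : k[X]) ^ q) ((X : k[X][X]) ^ q) (omegaP p k)) i j =
      if i + j = q * p ∧ q ∣ i ∧ i ≠ 0 ∧ j ≠ 0 then -((p.choose (i / q) / p : ℕ) : k) else 0 := by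
  simp only [omegaP, map_neg, map_sum, map_mul, map_pow, cf, coeff_neg, finsetSum_coeff]
  simp only [ev, coe_eval₂RingHom, eval₂_C, eval₂_X, eval₂_mul, eval₂_pow, RingHom.comp_apply]
  simp only [← pow_mul, ← map_pow C, ← map_mul C, coeff_C_mul_X_pow]
  simp only [apply_ite (fun q : k[X] => q.coeff i), coeff_zero, coeff_C_mul_X_pow]
  have hterm : ∀ t ∈ Finset.Ico 1 p,
      (if j = q * (p - t) then (if i = q * t then ((p.choose t / p : ℕ) : k) else 0) else 0) =
      if t = i / q then (if i + j = q * p ∧ q ∣ i ∧ i ≠ 0 ∧ j ≠ 0 then ((p.choose (i / q) / p : ℕ) : k) else 0)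
        else 0 := by
    intro t ht
    rw [Finset.mem_Ico] at ht
    by_cases hi : i = q * t
    · subst hi
      rw [if_pos rfl, Nat.mul_div_cancel_left _ hq, if_pos rfl]
      by_cases hj : j = q * (p - t)
      · subst hj
        rw [if_pos rfl, if_pos]
        refine ⟨by rw [← Nat.mul_add]; congr 1; omega, dvd_mul_right q t, ?_, ?_⟩
        · exact Nat.mul_ne_zero hq.ne' (by omega)
        · exact Nat.mul_ne_zero hq.ne' (by omega)
      · rw [if_neg hj, if_neg]
        rintro ⟨h, -⟩
        apply hj
        rw [Nat.mul_sub]; omega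
    · rw [if_neg hi, ite_self]
      by_cases h2 : t = i / q
      · rw [if_pos h2, if_neg]
        rintro ⟨-, hd, -⟩
        exact hi (h2 ▸ (Nat.mul_div_cancel' hd).symm)
      · rw [if_neg h2]
  rw [Finset.sum_congr rfl hterm, Finset.sum_ite_eq']
  by_cases hP : i + j = q * p ∧ q ∣ i ∧ i ≠ 0 ∧ j ≠ 0
  · rw [if_pos, if_pos hP, if_pos hP]
    obtain ⟨hij, ⟨t, rfl⟩, hi0, hj0⟩ := hP
    rw [Nat.mul_div_cancel_left _ hq, Finset.mem_Ico]
    refine ⟨Nat.pos_of_ne_zero fun h => hi0 (by rw [h, Nat.mul_zero]), ?_⟩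
    exact Nat.lt_of_mul_lt_mul_left (a := q) (by omega)
  · rw [if_neg hP, if_neg hP, ite_self, neg_zero]

/-- The classification. -/
theorem exists_decomposition (f : k[X][X]) (hcoc : IsCoc (cf f))
    (hadd : ∀ (g : k[X]) (M : ℕ) (b : ℕ → k), IsCoc (cf (f - dP g - ∑ s ∈ Finset.range M,
      C (C (b s)) * ev (C.comp C) (C (X : k[X]) ^ p ^ s) ((X : k[X][X]) ^ p ^ s) (omegaP p k)))) :
    ∃ (g : k[X]) (M : ℕ) (b : ℕ → k), f = dP g + ∑ s ∈ Finset.range M,
      C (C (b s)) * ev (C.comp C) (C (X : k[X]) ^ p ^ s) ((X : k[X][X]) ^ p ^ s) (omegaP p k) := by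
  classical
  obtain ⟨B, hB⟩ : ∃ B, ∀ i j, B ≤ i + j → cf f i j = 0 := by
    refine ⟨f.natDegree + ((Finset.range (f.natDegree + 1)).sup fun j => (f.coeff j).natDegree) + 1,
      fun i j hij => ?_⟩
    by_cases hj : j ≤ f.natDegree
    · refine coeff_eq_zero_of_natDegree_lt ?_
      have : (f.coeff j).natDegree ≤ (Finset.range (f.natDegree + 1)).sup fun j => (f.coeff j).natDegree :=
        Finset.le_sup (f := fun j => (f.coeff j).natDegree) (Finset.mem_range.2 (Nat.lt_succ_of_le hj))
      omega
    · rw [cf, coeff_eq_zero_of_natDegree_lt (Nat.lt_of_not_le hj), coeff_zero]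
  let γ : ℕ → k := fun n =>
    if n = 0 then cf f 0 0
    else if h : ∃ s r, ¬ p ∣ r ∧ 1 < r ∧ n = p ^ s * r then
      -(cf f (p ^ h.choose) (n - p ^ h.choose) / (n.choose (p ^ h.choose) : k))
    else 0
  let g : k[X] := ∑ n ∈ Finset.range (B + 1), monomial n (γ n)
  let b : ℕ → k := fun s => -cf f (p ^ s) (p ^ (s + 1) - p ^ s)
  have hg : ∀ n, g.coeff n = if n < B + 1 then γ n else 0 := by
    intro n
    simp only [g, finsetSum_coeff, coeff_monomial, Finset.sum_ite_eq', Finset.mem_range]
  refine ⟨g, B, b, ?_⟩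
  have huniq : ∀ s r s' r', ¬ p ∣ r → ¬ p ∣ r' → p ^ s * r = p ^ s' * r' → s = s' := by
    intro s r s' r' hr hr' e
    rcases lt_trichotomy s s' with hl | hl | hl
    · exfalso; apply hr
      obtain ⟨c, rfl⟩ : ∃ c, s' = s + 1 + c := ⟨s' - (s + 1), by omega⟩
      rw [show p ^ (s + 1 + c) * r' = p ^ s * (p * (p ^ c * r')) by ring] at e
      exact ⟨_, Nat.eq_of_mul_eq_mul_left (pow_pos hp.out.pos s) e⟩
    · exact hl
    · exfalso; apply hr'
      obtain ⟨c, rfl⟩ : ∃ c, s = s' + 1 + c := ⟨s - (s' + 1), by omega⟩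
      rw [show p ^ (s' + 1 + c) * r = p ^ s' * (p * (p ^ c * r)) by ring] at e
      exact ⟨_, (Nat.eq_of_mul_eq_mul_left (pow_pos hp.out.pos s') e).symm⟩
  suffices h : ∀ i j, cf (f - dP g - ∑ s ∈ Finset.range B,
      C (C (b s)) * ev (C.comp C) (C (X : k[X]) ^ p ^ s) ((X : k[X][X]) ^ p ^ s) (omegaP p k)) i j = 0 by
    rw [← sub_eq_zero, ← sub_sub]
    exact ext_cf fun i j => (h i j).trans (by simp [cf])
  have hcfsum : ∀ i j, cf (f - dP g - ∑ s ∈ Finset.range B,
      C (C (b s)) * ev (C.comp C) (C (X : k[X]) ^ p ^ s) ((X : k[X][X]) ^ p ^ s) (omegaP p k)) i j =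
      cf f i j - cf (dP g) i j - ∑ s ∈ Finset.range B, b s *
        (if i + j = p ^ s * p ∧ p ^ s ∣ i ∧ i ≠ 0 ∧ j ≠ 0 then -((p.choose (i / p ^ s) / p : ℕ) : k) else 0) := by
    intro i j
    simp only [← cf_omega_pow (p := p) (k := k) _ (pow_pos hp.out.pos _), cf, coeff_sub,
      finsetSum_coeff, coeff_C_mul]
  refine (hadd g B b).eq_zero ?_ (fun s => ?_) (fun s r hr hr1 => ?_)
  · rw [hcfsum, Finset.sum_eq_zero (fun s _ => by simp), cf_dP, hg]
    simp [γ]
  · have hlt : p ^ s < p ^ (s + 1) := Nat.pow_lt_pow_right hp.out.one_lt (Nat.lt_succ_self s)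
    have hsum : p ^ s + (p ^ (s + 1) - p ^ s) = p ^ (s + 1) := Nat.add_sub_cancel' hlt.le
    have hch : ((p ^ (s + 1)).choose (p ^ (s + 1) - p ^ s) : k) = 0 := by
      rw [CharP.cast_eq_zero_iff k p, Nat.choose_symm hlt.le]
      refine (Nat.modEq_zero_iff_dvd).1 ((choose_pow_modEq s _).trans ?_)
      rw [Nat.pow_succ, Nat.mul_div_cancel_left _ (pow_pos hp.out.pos s)]
      exact Nat.modEq_zero_iff_dvd.2 dvd_rfl
    have hj0 : p ^ (s + 1) - p ^ s ≠ 0 := by omega
    have hi0 : p ^ s ≠ 0 := pow_ne_zero _ hp.out.ne_zero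
    rw [hcfsum, cf_dP, hsum, hch, if_neg hj0, if_neg hi0]
    by_cases hsB : s < B
    · rw [Finset.sum_eq_single s]
      · rw [if_pos ⟨(pow_succ p s), dvd_rfl, hi0, hj0⟩, Nat.div_self (pow_pos hp.out.pos s),
          Nat.choose_one_right, Nat.div_self hp.out.pos]
        simp [b]
      · intro t _ hts
        rw [if_neg, mul_zero]
        rintro ⟨he, -⟩
        rw [← pow_succ] at he
        exact hts (Nat.succ_injective (Nat.pow_right_injective hp.out.two_le he)).symm
      · intro h; exact absurd (Finset.mem_range.2 hsB) h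
    · rw [Finset.sum_eq_zero, hB _ _ (by
        rw [hsum]; exact (Nat.le_of_not_lt hsB).trans ((Nat.lt_pow_self hp.out.one_lt).trans hlt).le)]
      · simp
      · intro t ht
        rw [if_neg, mul_zero]
        rintro ⟨he, -⟩
        rw [← pow_succ] at he
        have := Nat.pow_right_injective hp.out.two_le he
        have := Finset.mem_range.1 ht
        omega
  · have hle : p ^ s ≤ p ^ s * r := Nat.le_mul_of_pos_right _ (by omega)
    have hne : p ^ s * r ≠ 0 := Nat.mul_ne_zero (pow_ne_zero _ hp.out.ne_zero) (by omega)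
    have hj0 : p ^ s * r - p ^ s ≠ 0 := by
      have : p ^ s * 1 < p ^ s * r := Nat.mul_lt_mul_of_pos_left hr1 (pow_pos hp.out.pos s)
      omega
    have hi0 : p ^ s ≠ 0 := pow_ne_zero _ hp.out.ne_zero
    rw [hcfsum, cf_dP, Nat.add_sub_cancel' hle, if_neg hj0, if_neg hi0, Nat.choose_symm hle]
    rw [Finset.sum_eq_zero]
    swap
    · intro t _
      rw [if_neg, mul_zero]
      rintro ⟨he, -⟩
      rw [← pow_succ] at he
      have := huniq s r (t + 1) 1 hr hp.out.not_dvd_one (by rw [he, Nat.mul_one])
      subst this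
      exact hr1.ne' (Nat.eq_of_mul_eq_mul_left (pow_pos hp.out.pos (t+1)) (he.trans (Nat.mul_one _).symm))
    by_cases hB' : p ^ s * r < B + 1
    · have hex : ∃ s' r', ¬ p ∣ r' ∧ 1 < r' ∧ p ^ s * r = p ^ s' * r' := ⟨s, r, hr, hr1, rfl⟩
      have hs : hex.choose = s := by
        obtain ⟨r', hr', -, e⟩ := hex.choose_spec
        exact (huniq s r _ r' hr hr' e).symm
      have hc : ((p ^ s * r).choose (p ^ s) : k) ≠ 0 :=
        choose_pow_ne_zero (by rwa [Nat.mul_div_cancel_left _ (pow_pos hp.out.pos s)])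
      rw [hg, if_pos hB']
      simp only [γ, if_neg hne, dif_pos hex, hs, zero_add, sub_zero]
      field_simp
      ring
    · rw [hg, if_neg hB', hB _ _ (by omega)]
      simp

end Poly

end Groth.Agent.WittExt.Lazard
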