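import Groth.Agent.WittExt.Cocycle
import Groth.Agent.WittExt.Lazard
import Mathlib.Algebra.MvPolynomial.CommRing
import Mathlib.Algebra.CharP.Frobenius

/-! Classification of symmetric cocycles `W_1 × W_1 → W_1`. -/

set_option autoImplicit false
universe u

open CategoryTheory CategoryTheory.Limits AlgebraicGeometry MonoidalCategory CartesianMonoidalCategory MonObj

namespace Groth.Agent.WittExt.Base

open Groth.Agent.WittLib.Basic Groth.Agent.WittLib.Factor Groth.Agent.WittLib.Endo
  Groth.Agent.WittExt.Cocycle Groth.Agent.WittExt.Lazard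

variable {p : ℕ} [hp : Fact p.Prime]

lemma sum_choose_div {R : Type*} [CommRing R] (a b : R) :
    (p : R) * ∑ i ∈ Finset.Ico 1 p, ((p.choose i / p : ℕ) : R) * a ^ i * b ^ (p - i) =
      (a + b) ^ p - a ^ p - b ^ p := by
  rw [add_pow, Finset.range_eq_Ico, Finset.sum_Ico_succ_top (Nat.zero_le p),
    Finset.sum_eq_sum_Ico_succ_bot hp.out.pos, Finset.mul_sum]
  simp only [Nat.zero_add, pow_zero, Nat.sub_zero, Nat.choose_zero_right, Nat.cast_one, Nat.choose_self,
    Nat.sub_self, _root_.one_mul, _root_.mul_one]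
  have e : ∀ i ∈ Finset.Ico 1 p, (p : R) * (((p.choose i / p : ℕ) : R) * a ^ i * b ^ (p - i)) =
      a ^ i * b ^ (p - i) * (p.choose i : R) := by
    intro i hi
    obtain ⟨h1, h2⟩ := Finset.mem_Ico.1 hi
    rw [← _root_.mul_assoc, ← _root_.mul_assoc, ← Nat.cast_mul,
      Nat.mul_div_cancel' (hp.out.dvd_choose_self (by omega) h2)]
    ring
  rw [Finset.sum_congr rfl e]
  abel

/-- The second coefficient of a sum of Teichmüller representatives. -/
lemma coeff_one_teich_add {R : Type*} [CommRing R] (a b : R) :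
    (WittVector.teichmuller p a + WittVector.teichmuller p b).coeff 1 =
      -∑ i ∈ Finset.Ico 1 p, ((p.choose i / p : ℕ) : R) * a ^ i * b ^ (p - i) := by
  let A := MvPolynomial Bool ℤ
  have huniv : (WittVector.teichmuller p (MvPolynomial.X true : A) + WittVector.teichmuller p (MvPolynomial.X false)).coeff 1 =
      -∑ i ∈ Finset.Ico 1 p, ((p.choose i / p : ℕ) : A) * MvPolynomial.X true ^ i * MvPolynomial.X false ^ (p - i) := by
    set Z := WittVector.teichmuller p (MvPolynomial.X true : A) + WittVector.teichmuller p (MvPolynomial.X false)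
    have h0 : Z.coeff 0 = (MvPolynomial.X true : A) + MvPolynomial.X false := by
      rw [WittVector.add_coeff_zero, WittVector.teichmuller_coeff_zero, WittVector.teichmuller_coeff_zero]
    have h1 : WittVector.ghostComponent 1 Z = (MvPolynomial.X true : A) ^ p + MvPolynomial.X false ^ p := by
      rw [map_add, WittVector.ghostComponent_teichmuller, WittVector.ghostComponent_teichmuller, pow_one]
    rw [WittVector.ghostComponent_apply, aeval_wittPolynomial, Finset.sum_range_succ, Finset.sum_range_one] at h1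
    simp only [Nat.sub_self, pow_zero, _root_.one_mul, Nat.sub_zero, pow_one, h0] at h1
    have hpA : (p : A) ≠ 0 := Nat.cast_ne_zero.2 hp.out.ne_zero
    apply mul_left_cancel₀ hpA
    rw [mul_neg, sum_choose_div]
    linear_combination h1
  have := congrArg (MvPolynomial.aeval (R := ℤ) fun c : Bool => if c then a else b).toRingHom huniv
  rw [← WittVector.map_coeff, map_add, WittVector.map_teichmuller, WittVector.map_teichmuller] at this
  simpa using this

variable {k : Type u} [Field k]

local notation "Sk" => Spec (CommRingCat.of k)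

open scoped Polynomial

/-- The first coordinate of a point of `W_1`. -/
noncomputable abbrev c0 {T : Over Sk} (x : T ⟶ WittGrp.W p 1 Sk) : Γ(T.left, ⊤) := (vec x).coeff 0

lemma ext_c0 {T : Over Sk} {x y : T ⟶ WittGrp.W p 1 Sk} (h : c0 x = c0 y) : x = y :=
  vec_ext (TruncatedWittVector.ext fun i => by rw [Subsingleton.elim i 0]; exact h)

lemma c0_mul {T : Over Sk} (x y : T ⟶ WittGrp.W p 1 Sk) : c0 (x * y) = c0 x + c0 y := by
  rw [c0, vec_mul]
  exact coeff_zero_add _ _ Nat.one_pos

/-- A polynomial representing a morphism on pairs. -/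
def Rep (c : WittGrp.W p 1 Sk ⊗ WittGrp.W p 1 Sk ⟶ WittGrp.W p 1 Sk) (f : k[X][X]) : Prop :=
  ∀ (T : Over Sk) (x y : T ⟶ WittGrp.W p 1 Sk), c0 (ev2 c x y) = ev (str T) (c0 x) (c0 y) f

lemma exists_rep (c : WittGrp.W p 1 Sk ⊗ WittGrp.W p 1 Sk ⟶ WittGrp.W p 1 Sk) : ∃ f, Rep c f := by
  let e := combine p Sk 1 1
  obtain ⟨P, hP⟩ := exists_mvPoly (p := p) (k := k) (1 + 1) ((e.inv ≫ c).left.appTop (WittGrp.coord p 0))
  refine ⟨MvPolynomial.eval₂ (Polynomial.C.comp Polynomial.C)
    (fun j => ![Polynomial.C (Polynomial.X : k[X]), Polynomial.X] j.down) P, fun T x y => ?_⟩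
  have h := hP (lift x y ≫ e.hom)
  have e1 : ev2 c x y = (lift x y ≫ e.hom) ≫ e.inv ≫ c := by simp [ev2]
  rw [c0, e1, coeff_vec, Over.comp_left, Scheme.Hom.comp_appTop, CommRingCat.comp_apply, h,
    MvPolynomial.eval₂_comp_left]
  congr 1
  · ext r
    simp [ev]
  · funext j
    have hz : ∀ i : Fin 2, (vec (lift x y ≫ e.hom)).coeff i = ![c0 x, c0 y] i := by
      intro i
      simp only [e, combine, comp_ofVec, vec_ofVec, WittGrp.coeff_truncMap, TruncatedWittVector.coeff_mk]
      fin_cases i
      · show (lift x y).left.appTop (Fin.append _ _ (Fin.castAdd 1 (0 : Fin 1))) = _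
        rw [Fin.append_left, ← coeff_vec_comp, lift_fst]
        rfl
      · show (lift x y).left.appTop (Fin.append _ _ (Fin.natAdd 1 (0 : Fin 1))) = _
        rw [Fin.append_right, ← coeff_vec_comp, lift_snd]
        rfl
    rw [Function.comp_apply, hz]
    obtain ⟨j⟩ := j
    fin_cases j <;> simp [ev]

/-- The polynomial identities of a symmetric cocycle. -/
def Good (f : k[X][X]) : Prop :=
  ev (Polynomial.C.comp Polynomial.C) (Polynomial.X : k[X][X]) (Polynomial.C Polynomial.X) f = f ∧
  ev (Polynomial.C.comp (Polynomial.C.comp Polynomial.C)) (Polynomial.C (Polynomial.C (Polynomial.X : k[X]))) (Polynomial.C Polynomial.X) f +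
      ev (Polynomial.C.comp (Polynomial.C.comp Polynomial.C)) (Polynomial.C (Polynomial.C (Polynomial.X : k[X])) + Polynomial.C Polynomial.X) Polynomial.X f =
    ev (Polynomial.C.comp (Polynomial.C.comp Polynomial.C)) (Polynomial.C (Polynomial.C (Polynomial.X : k[X]))) (Polynomial.C Polynomial.X + Polynomial.X) f +
      ev (Polynomial.C.comp (Polynomial.C.comp Polynomial.C)) (Polynomial.C (Polynomial.X : k[X][X])) Polynomial.X f

lemma Good.sub {f g : k[X][X]} (hf : Good f) (hg : Good g) : Good (f - g) :=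
  ⟨by rw [map_sub, hf.1, hg.1], by simp only [map_sub]; rw [sub_add_sub_comm, sub_add_sub_comm, hf.2, hg.2]⟩

lemma ev_CC {R : Type*} [CommRing R] (φ : k →+* R) (u v : R) (r : k) :
    ev φ u v (Polynomial.C (Polynomial.C r)) = φ r := by simp [ev]

lemma ev_CX {R : Type*} [CommRing R] (φ : k →+* R) (u v : R) :
    ev φ u v (Polynomial.C Polynomial.X) = u := by simp [ev]

lemma ev_X {R : Type*} [CommRing R] (φ : k →+* R) (u v : R) : ev φ u v Polynomial.X = v := by simp [ev]

lemma ev_dP {R : Type*} [CommRing R] (φ : k →+* R) (u v : R) (g : k[X]) :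
    ev φ u v (dP g) = g.eval₂ φ u + g.eval₂ φ v - g.eval₂ φ (u + v) := by
  induction g using Polynomial.induction_on' with
  | add a b ha hb =>
    have e : dP (a + b) = dP a + dP b := by
      simp only [dP, map_add, Polynomial.map_add, Polynomial.eval₂_add]; ring
    rw [e, map_add, ha, hb, Polynomial.eval₂_add, Polynomial.eval₂_add, Polynomial.eval₂_add]
    ring
  | monomial n c =>
    simp [dP, ev, Polynomial.eval₂_monomial, Polynomial.map_monomial, Polynomial.eval₂_pow, Polynomial.eval₂_add]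

lemma good_dP (g : k[X]) : Good (dP g) := by
  constructor
  · rw [ev_dP, dP, Polynomial.map, ← Polynomial.hom_eval₂, Polynomial.eval₂_C_X,
      add_comm (Polynomial.X : k[X][X])]
    ring
  · simp only [ev_dP]
    rw [add_assoc (Polynomial.C (Polynomial.C (Polynomial.X : k[X]))) (Polynomial.C Polynomial.X) Polynomial.X]
    ring

lemma ev_hom {R R' : Type*} [CommRing R] [CommRing R'] (ψ : R →+* R') (φ : k →+* R) (u v : R)
    (f : k[X][X]) : ψ (ev φ u v f) = ev (ψ.comp φ) (ψ u) (ψ v) f := by
  induction f using induction_mono with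
  | hadd a b ha hb => simp only [map_add, ha, hb]
  | hmono a b r => simp only [ev_monomial, map_mul, map_pow, RingHom.comp_apply]

lemma ev_id (f : k[X][X]) :
    ev (Polynomial.C.comp Polynomial.C) (Polynomial.C (Polynomial.X : k[X])) (Polynomial.X : k[X][X]) f = f := by
  induction f using induction_mono with
  | hadd a b ha hb => simp only [map_add, ha, hb]
  | hmono a b r =>
    rw [ev_monomial, RingHom.comp_apply, ← map_pow, ← map_mul, Polynomial.C_mul_X_pow_eq_monomial,
      Polynomial.C_mul_X_pow_eq_monomial]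

/-- The point of `W_1` over `Spec A` with coordinate `r`. -/
noncomputable def testPt (A : Type u) [CommRing A] [Algebra k A] (r : A) :
    test (k := k) A ⟶ WittGrp.W p 1 Sk :=
  ofVec (TruncatedWittVector.mk p fun _ => (Scheme.ΓSpecIso (CommRingCat.of A)).inv r)

lemma c0_testPt (A : Type u) [CommRing A] [Algebra k A] (r : A) :
    c0 (testPt (p := p) (k := k) A r) = (Scheme.ΓSpecIso (CommRingCat.of A)).inv r := by
  simp [c0, testPt]

lemma testPt_mul (A : Type u) [CommRing A] [Algebra k A] (r r' : A) :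
    testPt (p := p) (k := k) A r * testPt A r' = testPt A (r + r') :=
  ext_c0 (by rw [c0_mul, c0_testPt, c0_testPt, c0_testPt, map_add])

lemma rep_testPt {c : WittGrp.W p 1 Sk ⊗ WittGrp.W p 1 Sk ⟶ WittGrp.W p 1 Sk} {f : k[X][X]}
    (hf : Rep c f) (A : Type u) [CommRing A] [Algebra k A] (u v : A) :
    c0 (ev2 c (testPt A u) (testPt A v)) =
      (Scheme.ΓSpecIso (CommRingCat.of A)).inv (ev (algebraMap k A) u v f) := by
  rw [hf, c0_testPt, c0_testPt]
  refine Eq.trans ?_ (ev_hom (Scheme.ΓSpecIso (CommRingCat.of A)).inv.hom (algebraMap k A) u v f).symm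
  rw [show str (test (k := k) A) = (Scheme.ΓSpecIso (CommRingCat.of A)).inv.hom.comp (algebraMap k A) from
    RingHom.ext fun r => str_test A r]

lemma inv_injective (A : Type u) [CommRing A] :
    Function.Injective (Scheme.ΓSpecIso (CommRingCat.of A)).inv :=
  (Scheme.ΓSpecIso (CommRingCat.of A)).symm.commRingCatIsoToRingEquiv.injective

set_option maxHeartbeats 1000000 in
lemma good_of_rep {c : WittGrp.W p 1 Sk ⊗ WittGrp.W p 1 Sk ⟶ WittGrp.W p 1 Sk} {f : k[X][X]}
    (hc : IsCoc c) (hf : Rep c f) : Good f := by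
  constructor
  · have key := congrArg c0 (hc.comm (test (k[X][X])) (testPt _ Polynomial.X) (testPt _ (Polynomial.C Polynomial.X)))
    rw [rep_testPt hf, rep_testPt hf] at key
    exact (inv_injective _ key).trans (ev_id f)
  · have key := congrArg c0 (hc.assoc (test (k[X][X][X]))
      (testPt _ (Polynomial.C (Polynomial.C Polynomial.X))) (testPt _ (Polynomial.C Polynomial.X))
      (testPt _ Polynomial.X))
    rw [testPt_mul, testPt_mul, c0_mul, c0_mul, rep_testPt hf, rep_testPt hf, rep_testPt hf,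
      rep_testPt hf,
      show algebraMap k (k[X][X][X]) = Polynomial.C.comp (Polynomial.C.comp Polynomial.C) from
        RingHom.ext fun r => by simp [Polynomial.algebraMap_apply]] at key
    exact inv_injective _ ((map_add _ _ _).trans (key.trans (map_add _ _ _).symm))

/-- The standard cocycle of `W_2`. -/
noncomputable abbrev omega : WittGrp.W p 1 Sk ⊗ WittGrp.W p 1 Sk ⟶ WittGrp.W p 1 Sk :=
  std (p := p) Sk (Nat.le_succ 1) (rfl : 1 + 1 = 2)

lemma rep_omega : Rep (omega (p := p) (k := k)) (omegaP p k) := by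
  intro T x y
  have hx : ∀ z : T ⟶ WittGrp.W p 1 Sk, vec (z ≫ pad Sk (Nat.le_succ 1)) =
      WittVector.truncate 2 (WittVector.teichmuller p (c0 z)) := by
    intro z
    refine TruncatedWittVector.ext fun i => ?_
    rw [coeff_comp_pad, WittVector.coeff_truncate]
    fin_cases i
    · rw [dif_pos Nat.one_pos]; simp [c0]
    · rw [dif_neg (Nat.lt_irrefl 1)]
      exact (WittVector.teichmuller_coeff_pos p (c0 z) 1 Nat.one_pos).symm
  rw [ev2_std, c0, coeff_comp_hi, vec_mul, hx, hx, ← map_add, WittVector.coeff_truncate]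
  show (WittVector.teichmuller p (c0 x) + WittVector.teichmuller p (c0 y)).coeff 1 = _
  rw [coeff_one_teich_add]
  simp only [omegaP, map_neg, map_sum, map_mul, map_pow, ev_CC, ev_CX, ev_X, map_natCast]

variable [CharP k p]

/-- The polynomial of `ω` followed by `∑ [b_s] F^s`. -/
noncomputable def omegaLinP (p : ℕ) (M : ℕ) (b : ℕ → k) : k[X][X] :=
  ∑ s ∈ Finset.range M, Polynomial.C (Polynomial.C (b s)) *
    ev (Polynomial.C.comp Polynomial.C) (Polynomial.C (Polynomial.X : k[X]) ^ p ^ s)
      ((Polynomial.X : k[X][X]) ^ p ^ s) (omegaP p k)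

lemma ev_omegaP_pow {R : Type*} [CommRing R] (φ : k →+* R) (u v : R) (s : ℕ) :
    ev φ (u ^ p ^ s) (v ^ p ^ s) (omegaP p k) = ev φ u v (omegaP p k) ^ p ^ s := by
  rcases subsingleton_or_nontrivial R with hR | hR
  · exact Subsingleton.elim _ _
  haveI : CharP R p := charP_of_injective_ringHom φ.injective p
  have h : ∀ n : ℕ, (n : R) ^ p ^ s = n := fun n => by
    rw [← iterateFrobenius_def, map_natCast]
  rw [← iterateFrobenius_def (p := p) (x := ev φ u v (omegaP p k))]
  simp only [omegaP, map_neg, map_sum, map_mul, map_pow, ev_CC, ev_CX, ev_X, map_natCast]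
  simp only [iterateFrobenius_def, h]

lemma rep_omega_lin (M : ℕ) (b : ℕ → k) :
    Rep (omega (p := p) ≫ lin p 1 M b) (omegaLinP p M b) := by
  intro T x y
  rw [ev2_comp, c0, WittLib.Isogeny.coeff_lin_one, omegaLinP, map_sum, WittLib.Isogeny.poly,
    Polynomial.eval₂_finsetSum]
  refine Finset.sum_congr rfl fun s _ => ?_
  rw [map_mul, ev_hom (ev (str T) (c0 x) (c0 y)), Polynomial.eval₂_mul, Polynomial.eval₂_C,
    Polynomial.eval₂_pow, Polynomial.eval₂_X, show (vec (ev2 omega x y)).coeff 0 = _ from rep_omega T x y,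
    ← ev_omegaP_pow]
  have e : (ev (str T) (c0 x) (c0 y)).comp (Polynomial.C.comp Polynomial.C) = str T :=
    RingHom.ext fun r => by simp [ev]
  rw [e]
  simp only [map_pow, ev_CC, ev_CX, ev_X]

/-- Classification. -/
theorem exists_coh {c : WittGrp.W p 1 Sk ⊗ WittGrp.W p 1 Sk ⟶ WittGrp.W p 1 Sk} (hc : IsCoc c) :
    ∃ (M : ℕ) (b : ℕ → k), Coh c (omega (p := p) ≫ lin p 1 M b) := by
  obtain ⟨f, hf⟩ := exists_rep c
  have hgood := good_of_rep hc hf
  obtain ⟨g, M, b, hd⟩ := exists_decomposition (p := p) f (isCoc_cf f hgood.1 hgood.2) fun g M b => by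
    have h := (hgood.sub (good_dP g)).sub (good_of_rep ((isCoc_std (p := p) (S := Sk) (Nat.le_succ 1)
      (Nat.le_succ 1) (rfl : 1 + 1 = 2)).comp (lin p 1 M b)) (rep_omega_lin M b))
    exact isCoc_cf _ h.1 h.2
  let G : WittGrp.W p 1 Sk ⟶ WittGrp.W p 1 Sk :=
    ofVec (TruncatedWittVector.mk p fun _ => g.eval₂ (str _) (c0 (𝟙 (WittGrp.W p 1 Sk))))
  have hG : ∀ {T : Over Sk} (x : T ⟶ WittGrp.W p 1 Sk), c0 (x ≫ G) = g.eval₂ (str T) (c0 x) := by
    intro T x
    rw [c0, comp_ofVec, vec_ofVec, WittGrp.coeff_truncMap, TruncatedWittVector.coeff_mk, Polynomial.hom_eval₂]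
    rw [c0, ← coeff_vec_comp, Category.comp_id]
    congr 1
    exact RingHom.ext fun r => str_comp x r
  refine ⟨M, b, G, fun T x y => ext_c0 ?_⟩
  rw [c0_mul, c0_mul, c0_mul, hG, hG, hG, c0_mul, hf, rep_omega_lin M b T x y]
  have : f = dP g + omegaLinP p M b := hd
  rw [this, map_add, ev_dP]
  ring

end Groth.Agent.WittExt.Base
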