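import Groth.Agent.WittExt.Base

/-! Classification of symmetric cocycles `W_n × W_n → W_1` and `W_1 × W_1 → W_n`. -/

set_option autoImplicit false
universe u

open CategoryTheory CategoryTheory.Limits AlgebraicGeometry MonoidalCategory CartesianMonoidalCategory MonObj

namespace Groth.Agent.WittExt.Classify

open Groth.Agent.WittLib.Basic Groth.Agent.WittLib.Factor Groth.Agent.WittLib.Endo
  Groth.Agent.WittExt.Cocycle Groth.Agent.WittExt.Base

section Delta

variable {S : Scheme.{u}} {Q A : Over S} [GrpObj A] [IsCommMonObj A] [GrpObj Q]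

/-- The coboundary of a morphism. -/
noncomputable def delta (g : Q ⟶ A) : Q ⊗ Q ⟶ A :=
  ((fst Q Q * snd Q Q) ≫ g) * ((fst Q Q ≫ g) * (snd Q Q ≫ g))⁻¹

@[simp] lemma ev2_delta (g : Q ⟶ A) {T : Over S} (x y : T ⟶ Q) :
    ev2 (delta g) x y = ((x * y) ≫ g) * ((x ≫ g) * (y ≫ g))⁻¹ := by
  simp only [ev2, delta, MonObj.comp_mul, GrpObj.comp_inv, ← Category.assoc, lift_fst, lift_snd]

lemma coh_mul_delta (c : Q ⊗ Q ⟶ A) (g : Q ⟶ A) : Coh c (c * delta g) := by
  refine ⟨g, fun T x y => ?_⟩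
  simp only [ev2_mul, ev2_delta]
  rw [_root_.mul_assoc, inv_mul_cancel_right]

omit [IsCommMonObj A] in
lemma ev2_self (c : Q ⊗ Q ⟶ A) {T : Over S} (u v : T ⟶ Q) (z : T ⟶ T) :
    z ≫ ev2 c u v = ev2 c (z ≫ u) (z ≫ v) := comp_ev2 c z u v

end Delta

variable {p : ℕ} [hp : Fact p.Prime]

section Descend

variable {S : Scheme.{u}} {n : ℕ} {A : Over S} [GrpObj A] [IsCommMonObj A]

/-- A cocycle on `W_{n+1}` trivial on `V W_n` comes from `W_1`. -/
theorem descend {c : WittGrp.W p (n + 1) S ⊗ WittGrp.W p (n + 1) S ⟶ A} (hc : IsCoc c)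
    (h0 : pull (WittGrp.V p S (Nat.le_succ n)) c = 1) :
    ∃ c' : WittGrp.W p 1 S ⊗ WittGrp.W p 1 S ⟶ A, IsCoc c' ∧
      Coh c (pull (WittGrp.R p S (Nat.le_add_left 1 n)) c') := by
  have hl : 1 ≤ n + 1 := Nat.le_add_left 1 n
  have hn : n ≤ n + 1 := Nat.le_succ n
  have e : 1 + n = n + 1 := Nat.add_comm 1 n
  have hVV : ∀ {T : Over S} (b b' : T ⟶ WittGrp.W p n S),
      ev2 c (b ≫ WittGrp.V p S hn) (b' ≫ WittGrp.V p S hn) = 1 := by
    intro T b b'
    rw [← ev2_pull, h0, ev2_one]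
  have h1 : ∀ {T : Over S} (x : T ⟶ WittGrp.W p (n + 1) S), ev2 c x 1 = 1 := by
    intro T x
    rw [hc.apply_one]
    have := hVV (1 : T ⟶ WittGrp.W p n S) 1
    rwa [MonObj.one_comp] at this
  let g : WittGrp.W p (n + 1) S ⟶ A :=
    ev2 c (WittGrp.R p S hl ≫ pad S hl) (hi S e ≫ WittGrp.V p S hn)
  have hg : ∀ {T : Over S} (a : T ⟶ WittGrp.W p 1 S) (b : T ⟶ WittGrp.W p n S),
      ((a ≫ pad S hl) * (b ≫ WittGrp.V p S hn)) ≫ g = ev2 c (a ≫ pad S hl) (b ≫ WittGrp.V p S hn) := by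
    intro T a b
    rw [comp_ev2, ← Category.assoc, ← Category.assoc, pad_mul_V_hi hl hn e, MonObj.mul_comp,
      Category.assoc b, V_comp_R hl hn e, MonObj.comp_one, _root_.mul_one, Category.assoc a, pad_R,
      Category.comp_id]
  let c' := c * delta g⁻¹
  have hc' : IsCoc c' := hc.of_coh (coh_mul_delta c g⁻¹).symm
  have hgV : ∀ {T : Over S} (b : T ⟶ WittGrp.W p n S), (b ≫ WittGrp.V p S hn) ≫ g = 1 := by
    intro T b
    have := hg (1 : T ⟶ WittGrp.W p 1 S) b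
    rw [comp_pad_one, _root_.one_mul] at this
    rw [this, hc.comm, h1]
  have hgp : ∀ {T : Over S} (a : T ⟶ WittGrp.W p 1 S), (a ≫ pad S hl) ≫ g = 1 := by
    intro T a
    have := hg a (1 : T ⟶ WittGrp.W p n S)
    rw [MonObj.one_comp, _root_.mul_one] at this
    rw [this, h1]
  have hVV' : ∀ {T : Over S} (b b' : T ⟶ WittGrp.W p n S),
      ev2 c' (b ≫ WittGrp.V p S hn) (b' ≫ WittGrp.V p S hn) = 1 := by
    intro T b b'
    simp only [c', ev2_mul, ev2_delta, GrpObj.comp_inv, hVV, ← MonObj.mul_comp b b' (WittGrp.V p S hn),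
      hgV, _root_.mul_one, _root_.one_mul, inv_one]
  have hpV : ∀ {T : Over S} (a : T ⟶ WittGrp.W p 1 S) (b : T ⟶ WittGrp.W p n S),
      ev2 c' (a ≫ pad S hl) (b ≫ WittGrp.V p S hn) = 1 := by
    intro T a b
    simp only [c', ev2_mul, ev2_delta, GrpObj.comp_inv, hg, hgp, hgV, _root_.mul_one, inv_one,
      mul_inv_cancel]
  have hxV : ∀ {T : Over S} (x : T ⟶ WittGrp.W p (n + 1) S) (b : T ⟶ WittGrp.W p n S),
      ev2 c' x (b ≫ WittGrp.V p S hn) = 1 := by
    intro T x b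
    rw [split hl hn e x, ← Category.assoc x (WittGrp.R p S hl), ← Category.assoc x (hi S e)]
    have := hc'.assoc T ((x ≫ WittGrp.R p S hl) ≫ pad S hl) ((x ≫ hi S e) ≫ WittGrp.V p S hn)
      (b ≫ WittGrp.V p S hn)
    rwa [hpV, ← MonObj.mul_comp (x ≫ hi S e) b, hpV, hVV', _root_.one_mul, _root_.one_mul] at this
  have hinvR : ∀ {T : Over S} (x y : T ⟶ WittGrp.W p (n + 1) S) (b : T ⟶ WittGrp.W p n S),
      ev2 c' x (y * (b ≫ WittGrp.V p S hn)) = ev2 c' x y := by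
    intro T x y b
    have := hc'.assoc T x y (b ≫ WittGrp.V p S hn)
    rw [hxV, hxV, _root_.mul_one, _root_.mul_one] at this
    exact this.symm
  have hinvL : ∀ {T : Over S} (x y : T ⟶ WittGrp.W p (n + 1) S) (b : T ⟶ WittGrp.W p n S),
      ev2 c' (x * (b ≫ WittGrp.V p S hn)) y = ev2 c' x y := by
    intro T x y b
    rw [hc'.comm, hinvR, hc'.comm]
  refine ⟨pull (pad S hl) c', ⟨fun T x y => ?_, fun T x y z => ?_⟩,
    (coh_mul_delta c g⁻¹).trans ?_⟩
  · rw [ev2_pull, ev2_pull, hc'.comm]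
  · simp only [ev2_pull]
    have := hc'.assoc T (x ≫ pad S hl) (y ≫ pad S hl) (z ≫ pad S hl)
    rwa [pad_mul_pad hl hn e x y, pad_mul_pad hl hn e y z, hinvL, hinvR] at this
  · convert Coh.refl c' using 1
    refine ext2 fun T x y => ?_
    simp only [ev2_pull]
    conv_rhs => rw [split hl hn e x, split hl hn e y]
    rw [← Category.assoc x (hi S e), ← Category.assoc y (hi S e), hinvL, hinvR, Category.assoc,
      Category.assoc]

end Descend

variable {k : Type u} [Field k] [CharP k p] [IsAlgClosed k]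

local notation "Sk" => Spec (CommRingCat.of k)

/-- The class of `W_{n+1}` over `W_n`. -/
noncomputable abbrev cW (n : ℕ) : WittGrp.W p n Sk ⊗ WittGrp.W p n Sk ⟶ WittGrp.W p 1 Sk :=
  std (p := p) Sk (Nat.le_succ n) (rfl : n + 1 = n + 1)

/-- The class of `W_{n+1}` over `W_1`. -/
noncomputable abbrev cV (n : ℕ) : WittGrp.W p 1 Sk ⊗ WittGrp.W p 1 Sk ⟶ WittGrp.W p n Sk :=
  std (p := p) Sk (Nat.le_add_left 1 n) (Nat.add_comm 1 n)

theorem exists_coh_top {n : ℕ} (hn : 1 ≤ n) : ∀ (c : WittGrp.W p n Sk ⊗ WittGrp.W p n Sk ⟶ WittGrp.W p 1 Sk),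
    IsCoc c → ∃ (M : ℕ) (a : ℕ → k), Coh c (cW (p := p) n ≫ lin p 1 M a) := by
  induction n, hn using Nat.le_induction with
  | base => exact fun c hc => Base.exists_coh hc
  | succ n hn ih =>
    intro c hc
    have hvn : n ≤ n + 1 := Nat.le_succ n
    obtain ⟨M, a, h⟩ := ih _ (hc.pull (WittGrp.V p Sk hvn))
    refine ⟨M, a, Coh.of_mul_inv ?_⟩
    set c₁ := c * (cW (p := p) (n + 1) ≫ lin p 1 M a)⁻¹ with hc₁
    have hcoc₁ : IsCoc c₁ :=
      hc.mul ((isCoc_std (Nat.le_succ (n + 1)) (Nat.le_add_left 1 (n + 1)) rfl).comp (lin p 1 M a)).inv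
    have hW : pull (WittGrp.V p Sk hvn) (cW (p := p) (n + 1)) = cW (p := p) (k := k) n :=
      pull_V_std _ _ _ _ hvn (Nat.le_succ (n + 1))
    obtain ⟨g, hg⟩ : Coh (pull (WittGrp.V p Sk hvn) c₁) 1 := by
      have h2 := h.mul (Coh.refl (cW (p := p) n ≫ lin p 1 M a)⁻¹)
      rw [mul_inv_cancel] at h2
      convert h2 using 1
      refine ext2 fun T x y => ?_
      simp only [c₁, ev2_pull, ev2_mul, ev2_inv, ev2_comp, ← hW]
    have e1 : 1 + n = n + 1 := Nat.add_comm 1 n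
    let c₂ := c₁ * delta (hi Sk e1 ≫ g)
    have hc₂ : IsCoc c₂ := hcoc₁.of_coh (coh_mul_delta _ _).symm
    have h20 : pull (WittGrp.V p Sk hvn) c₂ = 1 := by
      refine ext2 fun T x y => ?_
      have hV : ∀ z : T ⟶ WittGrp.W p n Sk, (z ≫ WittGrp.V p Sk hvn) ≫ hi Sk e1 ≫ g = z ≫ g := by
        intro z
        have := pad_mul_V_hi (Nat.le_add_left 1 n) hvn e1 (1 : T ⟶ WittGrp.W p 1 Sk) z
        rw [comp_pad_one, _root_.one_mul] at this
        rw [← Category.assoc, this]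
      simp only [c₂, ev2_pull, ev2_mul, ev2_delta, ev2_one, ← MonObj.mul_comp x y (WittGrp.V p Sk hvn), hV]
      have := hg T x y
      rw [ev2_pull, ev2_one, _root_.one_mul] at this
      rw [← _root_.mul_assoc, this, mul_inv_cancel]
    obtain ⟨c', hc', hcoh⟩ := descend hc₂ h20
    obtain ⟨M', b, hb⟩ := Base.exists_coh hc'
    refine ((coh_mul_delta _ _).trans hcoh).trans ((hb.pull (WittGrp.R p Sk _)).trans ?_)
    have hω : Coh (pull (WittGrp.R p Sk (Nat.le_add_left 1 n)) (omega (p := p) (k := k))) 1 := by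
      apply Coh.symm
      refine ⟨WittGrp.R p Sk (show 2 ≤ n + 1 by omega) ≫ hi Sk (rfl : 1 + 1 = 2), fun T x y => ?_⟩
      rw [ev2_one, _root_.one_mul, ← Category.assoc, ← Category.assoc, ← Category.assoc, MonObj.mul_comp,
        mul_hi (Nat.le_succ 1) (Nat.le_succ 1) rfl, ev2_pull, Category.assoc x, Category.assoc y, R_comp_R]
    have h3 := hω.comp (lin p 1 M' b)
    rw [MonObj.one_comp] at h3
    convert h3 using 1
    exact ext2 fun T x y => by simp only [ev2_pull, ev2_comp]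

theorem exists_coh_bottom {n : ℕ} (hn : 1 ≤ n) : ∀ (c : WittGrp.W p 1 Sk ⊗ WittGrp.W p 1 Sk ⟶ WittGrp.W p n Sk),
    IsCoc c → ∃ (M : ℕ) (a : ℕ → k), Coh c (pull (lin p 1 M a) (cV (p := p) n)) := by
  induction n, hn using Nat.le_induction with
  | base =>
    intro c hc
    obtain ⟨M, b, hb⟩ := Base.exists_coh hc
    obtain ⟨a, ha⟩ := exists_root (p := p) (k := k) 1 b
    refine ⟨M, a, hb.trans ?_⟩
    have h := coh_of_hom (p := p) (S := Sk) (Nat.le_succ 1) (Nat.le_succ 1) (rfl : 1 + 1 = 2)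
      (lin p 2 M a) (lin p 1 M a) (lin p 1 M b) (lin_R M a _) (by rw [V_lin, ← ha])
    exact h
  | succ n hn ih =>
    intro c hc
    have hle : n ≤ n + 1 := Nat.le_succ n
    have hv1 : 1 ≤ n + 1 := Nat.le_add_left 1 n
    obtain ⟨M, a, h⟩ := ih _ (hc.comp (WittGrp.R p Sk hle))
    refine ⟨M, a, Coh.of_mul_inv ?_⟩
    set c₁ := c * (pull (lin p 1 M a) (cV (p := p) (n + 1)))⁻¹ with hc₁
    have hcoc₁ : IsCoc c₁ :=
      hc.mul ((isCoc_std (Nat.le_add_left 1 (n + 1)) (Nat.le_succ (n + 1)) (Nat.add_comm 1 (n + 1))).pull (lin p 1 M a)).inv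
    have hR : cV (p := p) (k := k) (n + 1) ≫ WittGrp.R p Sk hle = cV (p := p) n :=
      std_R _ _ _ (Nat.le_succ (n + 1)) hle
    obtain ⟨g, hg⟩ : Coh (c₁ ≫ WittGrp.R p Sk hle) 1 := by
      have h2 := h.mul (Coh.refl (pull (lin p 1 M a) (cV (p := p) n))⁻¹)
      rw [mul_inv_cancel] at h2
      convert h2 using 1
      refine ext2 fun T x y => ?_
      simp only [c₁, ev2_comp, ev2_pull, ev2_mul, ev2_inv, MonObj.mul_comp, GrpObj.inv_comp]
      rw [← hR, ev2_comp]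
    let c₂ := c₁ * delta (g ≫ pad Sk hle)
    have hc₂ : IsCoc c₂ := hcoc₁.of_coh (coh_mul_delta _ _).symm
    have h20 : c₂ ≫ WittGrp.R p Sk hle = 1 := by
      refine ext2 fun T x y => ?_
      have hz : ∀ z : T ⟶ WittGrp.W p 1 Sk, (z ≫ g ≫ pad Sk hle) ≫ WittGrp.R p Sk hle = z ≫ g := fun z => by
        simp only [Category.assoc, pad_R, Category.comp_id]
      simp only [c₂, ev2_comp, ev2_mul, ev2_delta, ev2_one, MonObj.mul_comp, GrpObj.inv_comp, hz]
      have := hg T x y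
      rw [ev2_comp, ev2_one, _root_.one_mul] at this
      rw [← _root_.mul_assoc, this, mul_inv_cancel]
    obtain ⟨c₀, hc₀⟩ := exists_factor_V hv1 hle (Nat.add_comm 1 n) c₂ h20
    have hcoc₀ : IsCoc c₀ := by
      refine ⟨fun T x y => eq_of_comp_V hv1 ?_, fun T x y z => eq_of_comp_V hv1 ?_⟩
      · simp only [← ev2_comp, hc₀, hc₂.comm]
      · simp only [MonObj.mul_comp, ← ev2_comp, hc₀, hc₂.assoc]
    obtain ⟨M', b, hb⟩ := Base.exists_coh hcoc₀
    obtain ⟨b', hb'⟩ := exists_root (p := p) (k := k) (n + 1 - 1) b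
    have h1 : Coh c₂ ((omega (p := p) (k := k) ≫ lin p 1 M' b) ≫ WittGrp.V p Sk hv1) := hc₀ ▸ hb.comp _
    refine ((coh_mul_delta _ _).trans h1).trans ?_
    have hω : Coh (omega (p := p) (k := k) ≫ WittGrp.V p Sk hv1) 1 := by
      refine ⟨pad Sk (Nat.le_succ 1) ≫ WittGrp.V p Sk (show 2 ≤ n + 1 by omega), fun T x y => ?_⟩
      have key := congrArg (fun z => z ≫ WittGrp.V p Sk (show 2 ≤ n + 1 by omega))
        (pad_mul_pad (p := p) (S := Sk) (Nat.le_succ 1) (Nat.le_succ 1) (rfl : 1 + 1 = 2) x y)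
      simp only [MonObj.mul_comp, Category.assoc, V_comp_V] at key
      rw [ev2_one, _root_.one_mul, key, _root_.mul_comm, ev2_comp]
      simp only [Category.assoc]
    have h3 := hω.comp (lin p (n + 1) M' b')
    rw [MonObj.one_comp] at h3
    convert h3 using 1
    rw [Category.assoc, Category.assoc, V_lin, hb']

end Groth.Agent.WittExt.Classify
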