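import Groth.Agent.WittLib.Endo
import Groth.Agent.WittLib.Isogeny

/-! Symmetric 2-cocycles between group schemes and the standard cocycles of the Witt groups. -/

set_option autoImplicit false
universe u

open CategoryTheory CategoryTheory.Limits AlgebraicGeometry MonoidalCategory CartesianMonoidalCategory MonObj

namespace Groth.Agent.WittExt.Cocycle

open Groth.Agent.WittLib.Basic Groth.Agent.WittLib.Factor

section General

variable {S : Scheme.{u}} {Q Q' A A' : Over S}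

/-- Evaluation on a pair of points. -/
noncomputable abbrev ev2 (c : Q ⊗ Q ⟶ A) {T : Over S} (x y : T ⟶ Q) : T ⟶ A := lift x y ≫ c

lemma comp_ev2 (c : Q ⊗ Q ⟶ A) {T T' : Over S} (h : T' ⟶ T) (x y : T ⟶ Q) :
    h ≫ ev2 c x y = ev2 c (h ≫ x) (h ≫ y) := by
  rw [ev2, ev2, ← Category.assoc, comp_lift]

lemma ext2 {c c' : Q ⊗ Q ⟶ A} (h : ∀ (T : Over S) (x y : T ⟶ Q), ev2 c x y = ev2 c' x y) : c = c' := by
  simpa [ev2] using h _ (fst Q Q) (snd Q Q)

/-- Pull back along a morphism. -/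
noncomputable def pull (v : Q' ⟶ Q) (c : Q ⊗ Q ⟶ A) : Q' ⊗ Q' ⟶ A := ev2 c (fst _ _ ≫ v) (snd _ _ ≫ v)

@[simp] lemma ev2_pull (v : Q' ⟶ Q) (c : Q ⊗ Q ⟶ A) {T : Over S} (x y : T ⟶ Q') :
    ev2 (pull v c) x y = ev2 c (x ≫ v) (y ≫ v) := by
  rw [pull, ev2, comp_ev2, ← Category.assoc, ← Category.assoc, lift_fst, lift_snd]

@[simp] lemma ev2_comp (c : Q ⊗ Q ⟶ A) (f : A ⟶ A') {T : Over S} (x y : T ⟶ Q) :
    ev2 (c ≫ f) x y = ev2 c x y ≫ f := (Category.assoc _ _ _).symm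

variable [GrpObj A] [IsCommMonObj A] [GrpObj Q]

@[simp] lemma ev2_mul (c c' : Q ⊗ Q ⟶ A) {T : Over S} (x y : T ⟶ Q) :
    ev2 (c * c') x y = ev2 c x y * ev2 c' x y := MonObj.comp_mul _ _ _

@[simp] lemma ev2_inv (c : Q ⊗ Q ⟶ A) {T : Over S} (x y : T ⟶ Q) :
    ev2 c⁻¹ x y = (ev2 c x y)⁻¹ := GrpObj.comp_inv _ _

@[simp] lemma ev2_one {T : Over S} (x y : T ⟶ Q) : ev2 (1 : Q ⊗ Q ⟶ A) x y = 1 := MonObj.comp_one _

/-- A symmetric 2-cocycle. -/
structure IsCoc (c : Q ⊗ Q ⟶ A) : Prop where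
  comm : ∀ (T : Over S) (x y : T ⟶ Q), ev2 c x y = ev2 c y x
  assoc : ∀ (T : Over S) (x y z : T ⟶ Q),
    ev2 c x y * ev2 c (x * y) z = ev2 c x (y * z) * ev2 c y z

/-- `c` and `c'` differ by the coboundary of a morphism. -/
def Coh (c c' : Q ⊗ Q ⟶ A) : Prop :=
  ∃ g : Q ⟶ A, ∀ (T : Over S) (x y : T ⟶ Q),
    ev2 c x y * ((x * y) ≫ g) = ev2 c' x y * ((x ≫ g) * (y ≫ g))

lemma Coh.refl (c : Q ⊗ Q ⟶ A) : Coh c c :=
  ⟨1, fun T x y => by simp [MonObj.comp_one]⟩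

lemma Coh.symm {c c' : Q ⊗ Q ⟶ A} (h : Coh c c') : Coh c' c := by
  obtain ⟨g, hg⟩ := h
  refine ⟨g⁻¹, fun T x y => ?_⟩
  have := hg T x y
  simp only [GrpObj.comp_inv]
  rw [← mul_inv, eq_mul_inv_iff_mul_eq, mul_right_comm, ← this, mul_inv_cancel_right]

lemma Coh.trans {c c' c'' : Q ⊗ Q ⟶ A} (h : Coh c c') (h' : Coh c' c'') : Coh c c'' := by
  obtain ⟨g, hg⟩ := h
  obtain ⟨g', hg'⟩ := h'
  refine ⟨g * g', fun T x y => ?_⟩
  simp only [MonObj.comp_mul]
  rw [← _root_.mul_assoc, hg, mul_right_comm, hg']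
  ac_rfl

lemma Coh.mul {c₁ c₁' c₂ c₂' : Q ⊗ Q ⟶ A} (h : Coh c₁ c₁') (h' : Coh c₂ c₂') :
    Coh (c₁ * c₂) (c₁' * c₂') := by
  obtain ⟨g, hg⟩ := h
  obtain ⟨g', hg'⟩ := h'
  refine ⟨g * g', fun T x y => ?_⟩
  simp only [MonObj.comp_mul, ev2_mul]
  rw [_root_.mul_mul_mul_comm, hg, hg']
  ac_rfl

lemma Coh.comp [GrpObj A'] [IsCommMonObj A'] {c c' : Q ⊗ Q ⟶ A} (h : Coh c c') (f : A ⟶ A')
    [IsMonHom f] : Coh (c ≫ f) (c' ≫ f) := by
  obtain ⟨g, hg⟩ := h
  refine ⟨g ≫ f, fun T x y => ?_⟩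
  simp only [ev2_comp, ← Category.assoc, ← MonObj.mul_comp]
  rw [hg]

lemma Coh.pull [GrpObj Q'] {c c' : Q ⊗ Q ⟶ A} (h : Coh c c') (v : Q' ⟶ Q) [IsMonHom v] :
    Coh (pull v c) (pull v c') := by
  obtain ⟨g, hg⟩ := h
  refine ⟨v ≫ g, fun T x y => ?_⟩
  simp only [ev2_pull, ← Category.assoc, MonObj.mul_comp]
  exact hg _ _ _

lemma Coh.of_mul_inv {c c' : Q ⊗ Q ⟶ A} (h : Coh (c * c'⁻¹) 1) : Coh c c' := by
  simpa using h.mul (Coh.refl c')

lemma IsCoc.mul {c c' : Q ⊗ Q ⟶ A} (h : IsCoc c) (h' : IsCoc c') : IsCoc (c * c') where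
  comm T x y := by rw [ev2_mul, ev2_mul, h.comm, h'.comm]
  assoc T x y z := by
    simp only [ev2_mul]
    rw [_root_.mul_mul_mul_comm, h.assoc, h'.assoc, _root_.mul_mul_mul_comm]

lemma IsCoc.inv {c : Q ⊗ Q ⟶ A} (h : IsCoc c) : IsCoc c⁻¹ where
  comm T x y := by rw [ev2_inv, ev2_inv, h.comm]
  assoc T x y z := by simp only [ev2_inv, ← mul_inv, h.assoc]

lemma IsCoc.comp [GrpObj A'] [IsCommMonObj A'] {c : Q ⊗ Q ⟶ A} (h : IsCoc c) (f : A ⟶ A')
    [IsMonHom f] : IsCoc (c ≫ f) where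
  comm T x y := by rw [ev2_comp, ev2_comp, h.comm]
  assoc T x y z := by simp only [ev2_comp, ← MonObj.mul_comp, h.assoc]

lemma IsCoc.pull [GrpObj Q'] {c : Q ⊗ Q ⟶ A} (h : IsCoc c) (v : Q' ⟶ Q) [IsMonHom v] :
    IsCoc (pull v c) where
  comm T x y := by rw [ev2_pull, ev2_pull, h.comm]
  assoc T x y z := by simp only [ev2_pull, MonObj.mul_comp, h.assoc]

lemma IsCoc.of_coh [IsCommMonObj Q] {c c' : Q ⊗ Q ⟶ A} (h : IsCoc c) (h' : Coh c' c) : IsCoc c' := by
  obtain ⟨g, hg⟩ := h'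
  have hv : ∀ (T : Over S) (x y : T ⟶ Q),
      ev2 c' x y = ev2 c x y * ((x ≫ g) * (y ≫ g)) * ((x * y) ≫ g)⁻¹ := fun T x y => by
    rw [← hg, mul_inv_cancel_right]
  refine ⟨fun T x y => ?_, fun T x y z => ?_⟩
  · rw [hv, hv, h.comm, _root_.mul_comm x y, _root_.mul_comm (x ≫ g)]
  · rw [hv, hv, hv, hv, _root_.mul_assoc x y z]
    have e := h.assoc T x y z
    calc ev2 c x y * ((x ≫ g) * (y ≫ g)) * ((x * y) ≫ g)⁻¹ *
          (ev2 c (x * y) z * (((x * y) ≫ g) * (z ≫ g)) * ((x * (y * z)) ≫ g)⁻¹)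
        = (ev2 c x y * ev2 c (x * y) z) * ((x ≫ g) * (y ≫ g) * (z ≫ g) * ((x * (y * z)) ≫ g)⁻¹) *
            (((x * y) ≫ g) * ((x * y) ≫ g)⁻¹) := by ac_rfl
      _ = (ev2 c x (y * z) * ev2 c y z) * ((x ≫ g) * (y ≫ g) * (z ≫ g) * ((x * (y * z)) ≫ g)⁻¹) *
            (((y * z) ≫ g) * ((y * z) ≫ g)⁻¹) := by rw [e, mul_inv_cancel, mul_inv_cancel]
      _ = _ := by ac_rfl

/-- Value at the unit. -/
lemma IsCoc.apply_one {c : Q ⊗ Q ⟶ A} (h : IsCoc c) {T : Over S} (x : T ⟶ Q) :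
    ev2 c x 1 = ev2 c (1 : T ⟶ Q) 1 := by
  have := h.assoc T x 1 1
  simp only [_root_.mul_one] at this
  exact mul_left_cancel this

end General

section Witt

variable {p : ℕ} [hp : Fact p.Prime] {S : Scheme.{u}} {l n N : ℕ}

/-- The last `n` coordinates on `W_{l+n}`. -/
noncomputable def hi (S : Scheme.{u}) (e : l + n = N) : WittGrp.W p N S ⟶ WittGrp.W p n S :=
  ofVec (TruncatedWittVector.mk p fun i : Fin n => (vec (𝟙 (WittGrp.W p N S))).coeff ⟨i.val + l, by omega⟩)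

lemma coeff_comp_hi (e : l + n = N) {T : Over S} (x : T ⟶ WittGrp.W p N S) (i : Fin n) :
    (vec (x ≫ hi S e)).coeff i = (vec x).coeff ⟨i.val + l, by omega⟩ := by
  rw [hi, comp_ofVec, vec_ofVec, WittGrp.coeff_truncMap, TruncatedWittVector.coeff_mk, ← coeff_vec_comp,
    Category.comp_id]

lemma coeff_comp_pad {a b : ℕ} (h : a ≤ b) {T : Over S} (x : T ⟶ WittGrp.W p a S) (j : Fin b) :
    (vec (x ≫ pad S h)).coeff j = if hj : j.val < a then (vec x).coeff ⟨j.val, hj⟩ else 0 := by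
  rw [pad, comp_ofVec, vec_ofVec, WittGrp.coeff_truncMap, TruncatedWittVector.coeff_mk]
  split_ifs with hj
  · rw [← coeff_vec_comp, Category.comp_id]
  · exact map_zero _

lemma coeff_pad_mul_V (hl : l ≤ N) (hn : n ≤ N) (e : l + n = N) {T : Over S}
    (a : T ⟶ WittGrp.W p l S) (b : T ⟶ WittGrp.W p n S) (j : Fin N) :
    (vec ((a ≫ pad S hl) * (b ≫ WittGrp.V p S hn))).coeff j =
      if hj : j.val < l then (vec a).coeff ⟨j.val, hj⟩ else (vec b).coeff ⟨j.val - l, by omega⟩ := by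
  rw [vec_mul, vec_V, WittLib.Isogeny.coeff_add_of_disjoint, coeff_comp_pad, WittGrp.coeff_shift]
  · by_cases hj : j.val < l
    · rw [dif_pos hj, dif_pos hj, dif_neg (by omega), add_zero]
    · rw [dif_neg hj, dif_neg hj, dif_pos (by omega), zero_add]
      congr 1
      ext
      show j.val - (N - n) = j.val - l
      omega
  · intro i
    rw [coeff_comp_pad, WittGrp.coeff_shift]
    by_cases hi : i.val < l
    · right; rw [dif_neg (by omega)]
    · left; rw [dif_neg hi]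

/-- `x = pad (low x) * V (high x)`. -/
lemma split (hl : l ≤ N) (hn : n ≤ N) (e : l + n = N) {T : Over S} (x : T ⟶ WittGrp.W p N S) :
    x = (x ≫ WittGrp.R p S hl ≫ pad S hl) * (x ≫ hi S e ≫ WittGrp.V p S hn) := by
  apply vec_ext
  refine TruncatedWittVector.ext fun j => ?_
  rw [← Category.assoc x, ← Category.assoc x (hi S e), coeff_pad_mul_V hl hn e]
  by_cases hj : j.val < l
  · rw [dif_pos hj, vec_R, TruncatedWittVector.coeff_truncate]; rfl
  · rw [dif_neg hj, coeff_comp_hi]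
    congr 1
    ext
    show j.val = j.val - l + l
    omega

lemma pad_mul_V_hi (hl : l ≤ N) (hn : n ≤ N) (e : l + n = N) {T : Over S}
    (a : T ⟶ WittGrp.W p l S) (b : T ⟶ WittGrp.W p n S) :
    ((a ≫ pad S hl) * (b ≫ WittGrp.V p S hn)) ≫ hi S e = b := by
  apply vec_ext
  refine TruncatedWittVector.ext fun i => ?_
  rw [coeff_comp_hi, coeff_pad_mul_V hl hn e, dif_neg (show ¬ i.val + l < l by omega)]
  congr 1
  ext
  exact Nat.add_sub_cancel ..

lemma V_comp_R (hl : l ≤ N) (hn : n ≤ N) (e : l + n = N) :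
    WittGrp.V p S hn ≫ WittGrp.R p S hl = (1 : WittGrp.W p n S ⟶ _) := by
  refine hom_ext fun T x => vec_ext ?_
  rw [← Category.assoc, vec_R, vec_V, MonObj.comp_one, vec_one,
    WittLib.Isogeny.truncate_shift' _ _ (by omega)]

lemma comp_pad_one (hl : l ≤ N) {T : Over S} : (1 : T ⟶ WittGrp.W p l S) ≫ pad S hl = 1 := by
  apply vec_ext
  refine TruncatedWittVector.ext fun j => ?_
  rw [coeff_comp_pad, vec_one, vec_one]
  split_ifs <;> simp [TruncatedWittVector.coeff_zero]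

/-- The cocycle of `W_{l+n}` as an extension of `W_l` by `W_n`. -/
noncomputable def std (S : Scheme.{u}) (hl : l ≤ N) (e : l + n = N) :
    WittGrp.W p l S ⊗ WittGrp.W p l S ⟶ WittGrp.W p n S :=
  ((fst _ _ ≫ pad S hl) * (snd _ _ ≫ pad S hl)) ≫ hi S e

lemma ev2_std (hl : l ≤ N) (e : l + n = N) {T : Over S} (x y : T ⟶ WittGrp.W p l S) :
    ev2 (std S hl e) x y = ((x ≫ pad S hl) * (y ≫ pad S hl)) ≫ hi S e := by
  rw [std, ev2, ← Category.assoc, MonObj.comp_mul, ← Category.assoc (lift x y), lift_fst,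
    ← Category.assoc (lift x y), lift_snd]

lemma pad_mul_pad (hl : l ≤ N) (hn : n ≤ N) (e : l + n = N) {T : Over S} (x y : T ⟶ WittGrp.W p l S) :
    (x ≫ pad S hl) * (y ≫ pad S hl) =
      ((x * y) ≫ pad S hl) * (ev2 (std S hl e) x y ≫ WittGrp.V p S hn) := by
  conv_lhs => rw [split hl hn e ((x ≫ pad S hl) * (y ≫ pad S hl))]
  rw [ev2_std, Category.assoc (_ * _) (hi S e), ← Category.assoc _ (WittGrp.R p S hl), MonObj.mul_comp _ _ (WittGrp.R p S hl),
    Category.assoc x, Category.assoc y, pad_R, Category.comp_id, Category.comp_id]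

lemma mul_hi (hl : l ≤ N) (hn : n ≤ N) (e : l + n = N) {T : Over S} (z w : T ⟶ WittGrp.W p N S) :
    (z * w) ≫ hi S e = ev2 (std S hl e) (z ≫ WittGrp.R p S hl) (w ≫ WittGrp.R p S hl) *
      ((z ≫ hi S e) * (w ≫ hi S e)) := by
  conv_lhs => rw [split hl hn e z, split hl hn e w, _root_.mul_mul_mul_comm, ← Category.assoc z,
    ← Category.assoc w, pad_mul_pad hl hn e, _root_.mul_assoc, ← Category.assoc z (hi S e),
    ← Category.assoc w (hi S e), ← MonObj.mul_comp, ← MonObj.mul_comp]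
  rw [← MonObj.mul_comp, pad_mul_V_hi hl hn e]

lemma std_one (hl : l ≤ N) (hn : n ≤ N) (e : l + n = N) {T : Over S} (x : T ⟶ WittGrp.W p l S) :
    ev2 (std S hl e) x 1 = 1 := by
  have := pad_mul_pad hl hn e x 1
  rw [comp_pad_one, _root_.mul_one, _root_.mul_one] at this
  refine eq_of_comp_V hn ?_
  rw [MonObj.one_comp]
  exact (left_eq_mul.1 this)

lemma isCoc_std (hl : l ≤ N) (hn : n ≤ N) (e : l + n = N) : IsCoc (std (p := p) S hl e) where
  comm T x y := by rw [ev2_std, ev2_std, _root_.mul_comm]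
  assoc T x y z := by
    apply eq_of_comp_V hn
    rw [MonObj.mul_comp, MonObj.mul_comp]
    apply mul_left_cancel (a := (x * y * z) ≫ pad S hl)
    have e1 : (x ≫ pad S hl) * (y ≫ pad S hl) * (z ≫ pad S hl) =
        ((x * y * z) ≫ pad S hl) *
          ((ev2 (std S hl e) x y ≫ WittGrp.V p S hn) * (ev2 (std S hl e) (x * y) z ≫ WittGrp.V p S hn)) := by
      rw [pad_mul_pad hl hn e x y, mul_right_comm, pad_mul_pad hl hn e (x * y) z, _root_.mul_assoc,
        _root_.mul_comm (ev2 (std S hl e) (x * y) z ≫ WittGrp.V p S hn)]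
    have e2 : (x ≫ pad S hl) * (y ≫ pad S hl) * (z ≫ pad S hl) =
        ((x * y * z) ≫ pad S hl) *
          ((ev2 (std S hl e) x (y * z) ≫ WittGrp.V p S hn) * (ev2 (std S hl e) y z ≫ WittGrp.V p S hn)) := by
      rw [_root_.mul_assoc (x ≫ pad S hl), pad_mul_pad hl hn e y z, ← _root_.mul_assoc, pad_mul_pad hl hn e x (y * z),
        _root_.mul_assoc, _root_.mul_assoc x y z]
    exact e1.symm.trans e2

lemma hi_R {n' N' : ℕ} (e : l + n = N) (e' : l + n' = N') (hN : N ≤ N') (hn : n ≤ n') :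
    hi (p := p) S e' ≫ WittGrp.R p S hn = WittGrp.R p S hN ≫ hi S e := by
  refine hom_ext fun T x => vec_ext (TruncatedWittVector.ext fun i => ?_)
  rw [← Category.assoc, ← Category.assoc, vec_R, TruncatedWittVector.coeff_truncate, coeff_comp_hi,
    coeff_comp_hi, vec_R, TruncatedWittVector.coeff_truncate]
  rfl

lemma pad_comp_R {N' : ℕ} (hl : l ≤ N) (hN : N ≤ N') :
    pad (p := p) S (hl.trans hN) ≫ WittGrp.R p S hN = pad S hl := by
  refine hom_ext fun T x => vec_ext (TruncatedWittVector.ext fun i => ?_)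
  rw [← Category.assoc, vec_R, TruncatedWittVector.coeff_truncate, coeff_comp_pad, coeff_comp_pad]
  rfl

lemma V_pad {l' N' : ℕ} (hl : l ≤ N) (h' : l' ≤ N') (h1 : l ≤ l') (h2 : N ≤ N')
    (hd : l' - l = N' - N) :
    WittGrp.V p S h1 ≫ pad S h' = pad S hl ≫ WittGrp.V p S h2 := by
  refine hom_ext fun T x => vec_ext (TruncatedWittVector.ext fun i => ?_)
  simp only [← Category.assoc, vec_V, WittGrp.coeff_shift, coeff_comp_pad]
  split_ifs <;> first | rfl | omega | (congr 1; ext; simp; omega)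

lemma V_hi {l' N' : ℕ} (e : l + n = N) (e' : l' + n = N') (h2 : N ≤ N') :
    WittGrp.V p S h2 ≫ hi S e' = hi S e := by
  refine hom_ext fun T x => vec_ext (TruncatedWittVector.ext fun i => ?_)
  rw [← Category.assoc, coeff_comp_hi, coeff_comp_hi, vec_V, WittGrp.coeff_shift,
    dif_pos (show N' - N ≤ i.val + l' by omega)]
  congr 1
  ext
  show i.val + l' - (N' - N) = i.val + l
  omega

lemma std_R {n' N' : ℕ} (hl : l ≤ N) (e : l + n = N) (e' : l + n' = N') (hN : N ≤ N') (hn : n ≤ n') :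
    std (p := p) S (hl.trans hN) e' ≫ WittGrp.R p S hn = std S hl e := by
  refine ext2 fun T x y => ?_
  rw [ev2_comp, ev2_std, ev2_std, Category.assoc, hi_R e e' hN hn, ← Category.assoc, MonObj.mul_comp,
    Category.assoc, Category.assoc, pad_comp_R]

lemma pull_V_std {l' N' : ℕ} (hl : l ≤ N) (hl' : l' ≤ N') (e : l + n = N) (e' : l' + n = N')
    (h1 : l ≤ l') (h2 : N ≤ N') :
    pull (WittGrp.V p S h1) (std S hl' e') = std S hl e := by
  refine ext2 fun T x y => ?_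
  rw [ev2_pull, ev2_std, ev2_std, Category.assoc, Category.assoc, V_pad hl hl' h1 h2 (by omega),
    ← Category.assoc, ← Category.assoc, ← MonObj.mul_comp, Category.assoc, V_hi e e' h2]

/-- Functoriality of the standard class. -/
lemma coh_of_hom (hl : l ≤ N) (hn : n ≤ N) (e : l + n = N)
    (L : WittGrp.W p N S ⟶ WittGrp.W p N S) [IsMonHom L]
    (L₀ : WittGrp.W p l S ⟶ WittGrp.W p l S) (L₁ : WittGrp.W p n S ⟶ WittGrp.W p n S)
    (hR : L ≫ WittGrp.R p S hl = WittGrp.R p S hl ≫ L₀)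
    (hV : WittGrp.V p S hn ≫ L = L₁ ≫ WittGrp.V p S hn) :
    Coh (std S hl e ≫ L₁) (pull L₀ (std S hl e)) := by
  refine ⟨pad S hl ≫ L ≫ hi S e, fun T x y => ?_⟩
  have key := congrArg (fun q => (q ≫ L) ≫ hi S e) (pad_mul_pad hl hn e x y)
  simp only [MonObj.mul_comp _ _ L, Category.assoc, hV] at key
  rw [mul_hi hl hn e, mul_hi hl hn e] at key
  simp only [Category.assoc, hR] at key
  rw [← Category.assoc (pad S hl) (WittGrp.R p S hl), pad_R, Category.id_comp] at key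
  have e1 : ∀ w : T ⟶ WittGrp.W p n S, (w ≫ WittGrp.V p S hn) ≫ hi S e = w := fun w => by
    have := pad_mul_V_hi hl hn e (1 : T ⟶ WittGrp.W p l S) w
    rwa [comp_pad_one, _root_.one_mul] at this
  have e2 : ∀ w : T ⟶ WittGrp.W p n S, (w ≫ WittGrp.V p S hn) ≫ WittGrp.R p S hl = 1 := fun w => by
    rw [Category.assoc, V_comp_R hl hn e, MonObj.comp_one]
  simp only [← Category.assoc] at key
  rw [e1, e2, std_one hl hn e, _root_.one_mul] at key
  simp only [ev2_comp, ev2_pull]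
  rw [_root_.mul_comm]
  simpa only [Category.assoc] using key.symm

end Witt

end Groth.Agent.WittExt.Cocycle
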