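import Groth.Agent.WittExt.Amitsur
import Groth.Agent.WittExt.Classify
import Groth.Agent.FpqcDesc.Props

/-! Sections of extensions by Witt groups over affine bases. -/

set_option autoImplicit false
universe u

open CategoryTheory CategoryTheory.Limits AlgebraicGeometry MonoidalCategory CartesianMonoidalCategory MonObj
open scoped TensorProduct

namespace Groth.Agent.WittExt.Section

open Groth.Agent.WittLib.Basic Groth.Agent.WittLib.Factor Groth.Agent.WittLib.Endo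
  Groth.Agent.WittExt.Cocycle Groth.Agent.WittExt.Base

variable {p : ℕ} [hp : Fact p.Prime] {k : Type u} [Field k]

local notation "Sk" => Spec (CommRingCat.of k)

/-- The induced map on global functions. -/
noncomputable abbrev gl {T X : Over Sk} (x : T ⟶ X) : Γ(X.left, ⊤) →+* Γ(T.left, ⊤) := x.left.appTop.hom

lemma gl_comp {T T' X : Over Sk} (f : T' ⟶ T) (x : T ⟶ X) : gl (f ≫ x) = (gl f).comp (gl x) := by
  simp only [gl, Over.comp_left, Scheme.Hom.comp_appTop, CommRingCat.hom_comp]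

lemma ext_affine {T X : Over Sk} [IsAffine X.left] {x y : T ⟶ X} (h : gl x = gl y) : x = y :=
  Over.OverMorphism.ext (ext_of_isAffine (CommRingCat.hom_ext h))

lemma toAff {X : Over Sk} [IsAffine X.left] (T : Over Sk) (ψ : Γ(X.left, ⊤) →+* Γ(T.left, ⊤))
    (h : ψ.comp (str X) = str T) : ∃ x : T ⟶ X, gl x = ψ := by
  let f : T.left ⟶ X.left := T.left.toSpecΓ ≫ Spec.map (CommRingCat.ofHom ψ) ≫ X.left.isoSpec.inv
  have hf : f.appTop = CommRingCat.ofHom ψ := by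
    have e : X.left.isoSpec.inv.appTop = (Scheme.ΓSpecIso Γ(X.left, ⊤)).inv := by
      rw [← cancel_mono (Scheme.ΓSpecIso Γ(X.left, ⊤)).hom, Iso.inv_hom_id,
        ← Scheme.toSpecΓ_appTop, ← Scheme.Hom.comp_appTop, Scheme.toSpecΓ_isoSpec_inv]
      simp
    rw [Scheme.Hom.comp_appTop, Scheme.Hom.comp_appTop, Scheme.toSpecΓ_appTop, e, Category.assoc,
      Scheme.ΓSpecIso_naturality]
    exact Iso.inv_hom_id_assoc _ _
  have hw : f ≫ X.hom = T.hom := ext_of_isAffine (by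
    rw [Scheme.Hom.comp_appTop, hf]
    refine (cancel_epi (Scheme.ΓSpecIso (CommRingCat.of k)).inv).1 (CommRingCat.hom_ext ?_)
    exact h)
  exact ⟨Over.homMk f hw, congrArg CommRingCat.Hom.hom hf⟩

variable {Q E : Over (Spec (CommRingCat.of k))} (π : E ⟶ Q)

/-- An additive assignment on pairs of points of `E` over the same point of `Q`. -/
structure Diff (n : ℕ) where
  val : ∀ {T : Over (Spec (CommRingCat.of k))} (x y : T ⟶ E), x ≫ π = y ≫ π → (T ⟶ WittGrp.W p n (Spec (CommRingCat.of k)))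
  natural : ∀ {T T' : Over (Spec (CommRingCat.of k))} (h : T' ⟶ T) (x y : T ⟶ E) (e : x ≫ π = y ≫ π)
    (e' : (h ≫ x) ≫ π = (h ≫ y) ≫ π), h ≫ val x y e = val (h ≫ x) (h ≫ y) e'
  add : ∀ {T : Over (Spec (CommRingCat.of k))} (x y z : T ⟶ E) (e₁ : x ≫ π = y ≫ π) (e₂ : y ≫ π = z ≫ π),
    val x y e₁ * val y z e₂ = val x z (e₁.trans e₂)

variable [GrpObj Q] [GrpObj E] [IsCommMonObj E]

variable [IsAffine Q.left] [IsAffine E.left] [Flat π.left] [Surjective π.left]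

omit [GrpObj Q] [GrpObj E] [IsCommMonObj E] in
lemma faithfullyFlat : (gl π).FaithfullyFlat := by
  rw [RingHom.FaithfullyFlat.iff_flat_and_comap_surjective]
  refine ⟨(HasRingHomProperty.iff_of_isAffine (P := @Flat)).1 ‹_›, ?_⟩
  have h : Surjective (Spec.map π.left.appTop) :=
    (MorphismProperty.arrow_mk_iso_iff @Surjective (arrowIsoSpecΓOfIsAffine π.left)).1 ‹_›
  exact h.surj

theorem Diff.exists_potential_one (D : Diff (p := p) π 1) :
    ∃ r : E ⟶ WittGrp.W p 1 Sk, ∀ {T : Over Sk} (x y : T ⟶ E) (e : x ≫ π = y ≫ π),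
      D.val x y e * (x ≫ r) = y ≫ r := by
  letI := (gl π).toAlgebra
  haveI hff : Module.FaithfullyFlat Γ(Q.left, ⊤) Γ(E.left, ⊤) := faithfullyFlat π
  let R2 := Γ(E.left, ⊤) ⊗[Γ(Q.left, ⊤)] Γ(E.left, ⊤)
  let R3 := Γ(E.left, ⊤) ⊗[Γ(Q.left, ⊤)] R2
  let l : Γ(E.left, ⊤) →ₐ[Γ(Q.left, ⊤)] R2 := Algebra.TensorProduct.includeLeft
  let r' : Γ(E.left, ⊤) →ₐ[Γ(Q.left, ⊤)] R2 := Algebra.TensorProduct.includeRight
  letI a2 : Algebra k R2 := ((algebraMap Γ(Q.left, ⊤) R2).comp (str Q)).toAlgebra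
  letI a3 : Algebra k R3 := ((algebraMap Γ(Q.left, ⊤) R3).comp (str Q)).toAlgebra
  let T2 : Over Sk := test R2
  let T3 : Over Sk := test R3
  let i2 : R2 →+* Γ(T2.left, ⊤) := (Scheme.ΓSpecIso (CommRingCat.of R2)).inv.hom
  let i3 : R3 →+* Γ(T3.left, ⊤) := (Scheme.ΓSpecIso (CommRingCat.of R3)).inv.hom
  have hπ : ∀ a, gl π (str Q a) = str E a := fun a => str_comp π a
  have hstr2 : ∀ a, str T2 a = i2 (algebraMap Γ(Q.left, ⊤) R2 (str Q a)) := fun a => str_test R2 a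
  have hstr3 : ∀ a, str T3 a = i3 (algebraMap Γ(Q.left, ⊤) R3 (str Q a)) := fun a => str_test R3 a
  have pts : ∀ φ : Γ(E.left, ⊤) →ₐ[Γ(Q.left, ⊤)] R2, ∃ x : T2 ⟶ E, gl x = i2.comp φ.toRingHom :=
    fun φ => toAff T2 _ (RingHom.ext fun a => by
      rw [hstr2, RingHom.comp_apply, ← hπ]
      exact congrArg i2 (φ.commutes _))
  obtain ⟨x1, hx1⟩ := pts l
  obtain ⟨x2, hx2⟩ := pts r'
  have hglπ : ∀ {T : Over Sk} (x y : T ⟶ E), (∀ a, gl x (gl π a) = gl y (gl π a)) → x ≫ π = y ≫ π :=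
    fun x y h => ext_affine (by rw [gl_comp, gl_comp]; exact RingHom.ext h)
  have e12 : x1 ≫ π = x2 ≫ π := hglπ _ _ fun a => by
    rw [hx1, hx2]
    exact congrArg i2 ((l.commutes a).trans (r'.commutes a).symm)
  let d := D.val x1 x2 e12
  let t : R2 := (Scheme.ΓSpecIso (CommRingCat.of R2)).hom (c0 d)
  have hd : c0 d = i2 t := by
    change c0 d = ((Scheme.ΓSpecIso (CommRingCat.of R2)).hom ≫ (Scheme.ΓSpecIso (CommRingCat.of R2)).inv) (c0 d)
    rw [Iso.hom_inv_id]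
    rfl
  have maps : ∀ δ : R2 →ₐ[Γ(Q.left, ⊤)] R3, ∃ σ : T3 ⟶ T2, ∀ c, gl σ (i2 c) = i3 (δ c) := by
    intro δ
    haveI : IsAffine T2.left := inferInstanceAs (IsAffine (Spec (CommRingCat.of R2)))
    obtain ⟨σ, hσ⟩ := toAff (X := T2) T3
      (i3.comp (δ.toRingHom.comp (Scheme.ΓSpecIso (CommRingCat.of R2)).hom.hom)) (RingHom.ext fun a => by
        rw [RingHom.comp_apply, hstr2, hstr3]
        simp [i2, δ.commutes])
    exact ⟨σ, fun c => by rw [hσ]; simp [i2]⟩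
  let δ23 : R2 →ₐ[Γ(Q.left, ⊤)] R3 := Algebra.TensorProduct.includeRight
  let δ12 : R2 →ₐ[Γ(Q.left, ⊤)] R3 := Algebra.TensorProduct.map (AlgHom.id _ _) l
  let δ13 : R2 →ₐ[Γ(Q.left, ⊤)] R3 := Algebra.TensorProduct.map (AlgHom.id _ _) r'
  obtain ⟨σ23, h23⟩ := maps δ23
  obtain ⟨σ12, h12⟩ := maps δ12
  obtain ⟨σ13, h13⟩ := maps δ13
  have cmp : ∀ (σ : T3 ⟶ T2) (δ : R2 →ₐ[Γ(Q.left, ⊤)] R3) (x : T2 ⟶ E)
      (φ : Γ(E.left, ⊤) →ₐ[Γ(Q.left, ⊤)] R2), (∀ c, gl σ (i2 c) = i3 (δ c)) →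
      gl x = i2.comp φ.toRingHom → ∀ b, gl (σ ≫ x) b = i3 (δ (φ b)) := by
    intro σ δ x φ hσ hx b
    rw [gl_comp, RingHom.comp_apply, hx]
    exact hσ _
  have hl : ∀ b, l b = b ⊗ₜ[Γ(Q.left, ⊤)] (1 : Γ(E.left, ⊤)) := fun _ => rfl
  have hr : ∀ b, r' b = (1 : Γ(E.left, ⊤)) ⊗ₜ[Γ(Q.left, ⊤)] b := fun _ => rfl
  have v23 : ∀ c, δ23 c = (1 : Γ(E.left, ⊤)) ⊗ₜ[Γ(Q.left, ⊤)] c := fun _ => rfl
  have v12 : ∀ a b, δ12 (a ⊗ₜ b) = a ⊗ₜ l b := fun a b => Algebra.TensorProduct.map_tmul ..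
  have v13 : ∀ a b, δ13 (a ⊗ₜ b) = a ⊗ₜ r' b := fun a b => Algebra.TensorProduct.map_tmul ..
  have q1 : σ13 ≫ x1 = σ12 ≫ x1 := ext_affine (RingHom.ext fun b => by
    rw [cmp _ _ _ _ h13 hx1, cmp _ _ _ _ h12 hx1]
    simp only [hl, hr, v12, v13])
  have q2 : σ12 ≫ x2 = σ23 ≫ x1 := ext_affine (RingHom.ext fun b => by
    rw [cmp _ _ _ _ h12 hx2, cmp _ _ _ _ h23 hx1]
    simp only [hl, hr, v12, v23])
  have q3 : σ13 ≫ x2 = σ23 ≫ x2 := ext_affine (RingHom.ext fun b => by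
    rw [cmp _ _ _ _ h13 hx2, cmp _ _ _ _ h23 hx2]
    simp only [hr, v13, v23])
  have eσ : ∀ σ : T3 ⟶ T2, (σ ≫ x1) ≫ π = (σ ≫ x2) ≫ π := fun σ => by
    rw [Category.assoc, Category.assoc, e12]
  have hcoc : (σ12 ≫ d) * (σ23 ≫ d) = σ13 ≫ d := by
    simp only [d]
    rw [D.natural σ12 x1 x2 e12 (eσ _), D.natural σ23 x1 x2 e12 (eσ _), D.natural σ13 x1 x2 e12 (eσ _)]
    have e1 : (σ12 ≫ x1) ≫ π = (σ12 ≫ x2) ≫ π := eσ _
    have e2 : (σ12 ≫ x2) ≫ π = (σ23 ≫ x2) ≫ π := by rw [q2]; exact eσ _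
    have key := D.add _ _ _ e1 e2
    simp only [q1, q2, q3] at key ⊢
    exact key
  have hc : ∀ (σ : T3 ⟶ T2) (δ : R2 →ₐ[Γ(Q.left, ⊤)] R3), (∀ c, gl σ (i2 c) = i3 (δ c)) →
      c0 (σ ≫ d) = i3 (δ t) := fun σ δ hσ => by
    rw [c0, coeff_vec_comp, ← hσ, ← hd]
  have ht : Amitsur.d2 _ _ t = 0 := by
    have h := congrArg c0 hcoc
    rw [c0_mul, hc _ _ h12, hc _ _ h23, hc _ _ h13, ← map_add] at h
    have h' : δ12 t + δ23 t = δ13 t := Base.inv_injective R3 h
    have e : Amitsur.d2 _ _ = δ23.toLinearMap - δ13.toLinearMap + δ12.toLinearMap := by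
      ext a b
      simp only [Amitsur.d2, LinearMap.comp_apply, TensorProduct.AlgebraTensorModule.curry_apply,
        TensorProduct.curry_apply, LinearMap.coe_restrictScalars, LinearMap.add_apply, LinearMap.sub_apply,
        AlgHom.toLinearMap_apply, v12, v13, v23, hl, hr, TensorProduct.mk_apply, LinearMap.lTensor_tmul,
        LinearMap.flip_apply]
    rw [e]
    simp only [LinearMap.add_apply, LinearMap.sub_apply, AlgHom.toLinearMap_apply]
    rw [← h']; abel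
  obtain ⟨b, hb⟩ := Amitsur.exists_of_cocycle ht
  refine ⟨ofVec (TruncatedWittVector.mk p fun _ => b), fun {T} x y e => ext_c0 ?_⟩
  haveI : IsAffine T2.left := inferInstanceAs (IsAffine (Spec (CommRingCat.of R2)))
  letI : Algebra Γ(Q.left, ⊤) Γ(T.left, ⊤) := (gl (x ≫ π)).toAlgebra
  let fx : Γ(E.left, ⊤) →ₐ[Γ(Q.left, ⊤)] Γ(T.left, ⊤) :=
    AlgHom.mk (gl x) (fun a => by
      change gl x (gl π a) = gl (x ≫ π) a
      rw [gl_comp]; rfl)
  let fy : Γ(E.left, ⊤) →ₐ[Γ(Q.left, ⊤)] Γ(T.left, ⊤) :=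
    AlgHom.mk (gl y) (fun a => by
      change gl y (gl π a) = gl (x ≫ π) a
      rw [e, gl_comp]; rfl)
  let L : R2 →ₐ[Γ(Q.left, ⊤)] Γ(T.left, ⊤) :=
    Algebra.TensorProduct.lift fx fy (fun _ _ => Commute.all _ _)
  obtain ⟨σ, hσ⟩ := toAff (X := T2) T (L.toRingHom.comp (Scheme.ΓSpecIso (CommRingCat.of R2)).hom.hom)
    (RingHom.ext fun a => by
      have hcancel : ∀ c, (Scheme.ΓSpecIso (CommRingCat.of R2)).hom.hom (i2 c) = c := fun c => by simp [i2]
      rw [RingHom.comp_apply, RingHom.comp_apply, hstr2, hcancel]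
      change L (algebraMap _ _ (str Q a)) = _
      rw [L.commutes]
      exact str_comp (x ≫ π) a)
  have hσ' : ∀ c, gl σ (i2 c) = L c := fun c => by rw [hσ]; simp [i2]
  have hL : ∀ a b, L (a ⊗ₜ b) = gl x a * gl y b := fun a b => Algebra.TensorProduct.lift_tmul ..
  have p1 : σ ≫ x1 = x := ext_affine (RingHom.ext fun c => by
    rw [gl_comp, RingHom.comp_apply, hx1]
    refine (hσ' _).trans ?_
    change L (c ⊗ₜ[Γ(Q.left, ⊤)] (1 : Γ(E.left, ⊤))) = _
    rw [hL, map_one, _root_.mul_one])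
  have p2 : σ ≫ x2 = y := ext_affine (RingHom.ext fun c => by
    rw [gl_comp, RingHom.comp_apply, hx2]
    refine (hσ' _).trans ?_
    change L ((1 : Γ(E.left, ⊤)) ⊗ₜ[Γ(Q.left, ⊤)] c) = _
    rw [hL, map_one, _root_.one_mul])
  have hval : σ ≫ d = D.val x y e := by
    simp only [d]
    rw [D.natural σ x1 x2 e12 (by rw [p1, p2]; exact e)]
    simp only [p1, p2]
  rw [c0_mul, ← hval]
  simp only [c0, comp_ofVec, vec_ofVec, WittGrp.coeff_truncMap, TruncatedWittVector.coeff_mk,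
    coeff_vec_comp σ d]
  change gl σ (c0 d) + gl x b = gl y b
  rw [hd, hσ', hb, map_sub, hL, hL, map_one, map_one]
  ring

omit [IsAffine Q.left] [IsAffine E.left] [Flat π.left] [Surjective π.left] in
/-- The difference of two points over the same point of the quotient. -/
lemma exists_diff {n : ℕ} (i : WittGrp.W p n Sk ⟶ E) [IsMonHom i] [Mono i] [IsMonHom π]
    (hker : AlgGrp.IsKernel i π) : ∃ D : Diff (p := p) π n,
      ∀ {T : Over Sk} (x y : T ⟶ E) (e : x ≫ π = y ≫ π), D.val x y e ≫ i = y * x⁻¹ := by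
  have hex : ∀ {T : Over Sk} (x y : T ⟶ E), x ≫ π = y ≫ π → ∃ z, z ≫ i = y * x⁻¹ := by
    intro T x y e
    have h : (y * x⁻¹) ≫ π = toUnit T ≫ η[Q] := by
      rw [MonObj.mul_comp, GrpObj.inv_comp, e, mul_inv_cancel, Hom.one_def]
    exact ⟨hker.lift _ _ h, hker.lift_fst _ _ h⟩
  choose f hf using @hex
  refine ⟨⟨fun x y e => f x y e, fun h x y e e' => ?_, fun x y z e₁ e₂ => ?_⟩, fun x y e => hf x y e⟩
  · rw [← cancel_mono i, Category.assoc, hf, hf, MonObj.comp_mul, GrpObj.comp_inv]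
  · rw [← cancel_mono i, MonObj.mul_comp, hf, hf, hf, _root_.mul_comm, ← _root_.mul_assoc,
      inv_mul_cancel_right]

theorem Diff.exists_potential : ∀ {n : ℕ} (D : Diff (p := p) π n),
    ∃ r : E ⟶ WittGrp.W p n Sk, ∀ {T : Over Sk} (x y : T ⟶ E) (e : x ≫ π = y ≫ π),
      D.val x y e * (x ≫ r) = y ≫ r
  | 0, D => ⟨1, fun x y e => eq_W_zero _ _⟩
  | n + 1, D => by
    have h1 : 1 ≤ n + 1 := Nat.le_add_left 1 n
    have hn : n ≤ n + 1 := Nat.le_succ n
    let D1 : Diff (p := p) π 1 :=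
      ⟨fun x y e => D.val x y e ≫ WittGrp.R p Sk h1,
        fun h x y e e' => by rw [← Category.assoc, D.natural],
        fun x y z e₁ e₂ => by rw [← MonObj.mul_comp, D.add]⟩
    obtain ⟨r1, hr1⟩ := D1.exists_potential_one π
    let rt := r1 ≫ pad Sk h1
    have hex : ∀ {T : Over Sk} (x y : T ⟶ E) (e : x ≫ π = y ≫ π),
        ∃ w, w ≫ WittGrp.V p Sk hn = D.val x y e * ((x ≫ rt) * (y ≫ rt)⁻¹) := by
      intro T x y e
      refine exists_factor_V hn h1 rfl _ ?_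
      rw [MonObj.mul_comp, MonObj.mul_comp, GrpObj.inv_comp]
      simp only [rt, Category.assoc, pad_R, Category.comp_id]
      rw [← _root_.mul_assoc, hr1 x y e, mul_inv_cancel]
    choose f hf using @hex
    let D' : Diff (p := p) π n :=
      ⟨fun x y e => f x y e,
        fun h x y e e' => eq_of_comp_V hn (by
          rw [Category.assoc, hf, hf]
          simp only [MonObj.comp_mul, GrpObj.comp_inv, Category.assoc, D.natural h x y e e']),
        fun x y z e₁ e₂ => eq_of_comp_V hn (by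
          rw [MonObj.mul_comp, hf, hf, hf, ← D.add x y z e₁ e₂]
          calc D.val x y e₁ * ((x ≫ rt) * (y ≫ rt)⁻¹) * (D.val y z e₂ * ((y ≫ rt) * (z ≫ rt)⁻¹))
              = D.val x y e₁ * D.val y z e₂ * ((x ≫ rt) * (z ≫ rt)⁻¹) * ((y ≫ rt) * (y ≫ rt)⁻¹) := by ac_rfl
            _ = _ := by rw [mul_inv_cancel, _root_.mul_one])⟩
    obtain ⟨r', hr'⟩ := Diff.exists_potential D'
    refine ⟨rt * (r' ≫ WittGrp.V p Sk hn), fun {T} x y e => ?_⟩
    have h := congrArg (fun z => z ≫ WittGrp.V p Sk hn) (hr' x y e)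
    simp only [MonObj.mul_comp, D', hf, Category.assoc] at h
    simp only [MonObj.comp_mul, ← h]
    calc D.val x y e * ((x ≫ rt) * (x ≫ r' ≫ WittGrp.V p Sk hn))
        = D.val x y e * ((x ≫ rt) * (x ≫ r' ≫ WittGrp.V p Sk hn)) * ((y ≫ rt) * (y ≫ rt)⁻¹) := by
          rw [mul_inv_cancel, _root_.mul_one]
      _ = _ := by ac_rfl

theorem exists_section [IsMonHom π] {n : ℕ} (i : WittGrp.W p n Sk ⟶ E) [IsMonHom i] [Mono i]
    (hker : AlgGrp.IsKernel i π) : ∃ s : Q ⟶ E, s ≫ π = 𝟙 Q := by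
  obtain ⟨D, hD⟩ := exists_diff π i hker
  obtain ⟨r, hr⟩ := D.exists_potential π
  have hw : i ≫ π = 1 := by rw [hker.w, Hom.one_def]
  let uu : E ⟶ E := 𝟙 E * (r ≫ i)⁻¹
  have huπ : uu ≫ π = π := by
    rw [MonObj.mul_comp, GrpObj.inv_comp, Category.assoc, hw, MonObj.comp_one, inv_one, _root_.mul_one,
      Category.id_comp]
  have hinv : ∀ {T : Over Sk} (x y : T ⟶ E), x ≫ π = y ≫ π → x ≫ uu = y ≫ uu := by
    intro T x y e
    simp only [uu, MonObj.comp_mul, GrpObj.comp_inv, Category.comp_id, ← Category.assoc]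
    rw [← hr x y e, MonObj.mul_comp, hD, mul_inv_rev]
    calc x * ((x ≫ r) ≫ i)⁻¹ = x * ((x ≫ r) ≫ i)⁻¹ * (y * y⁻¹) := by rw [mul_inv_cancel, _root_.mul_one]
      _ = _ := by
        rw [mul_inv_rev, inv_inv]
        ac_rfl
  letI := (gl π).toAlgebra
  haveI : Module.FaithfullyFlat Γ(Q.left, ⊤) Γ(E.left, ⊤) := faithfullyFlat π
  let R2 := Γ(E.left, ⊤) ⊗[Γ(Q.left, ⊤)] Γ(E.left, ⊤)
  letI : Algebra k R2 := ((algebraMap Γ(Q.left, ⊤) R2).comp (str Q)).toAlgebra
  let T2 : Over Sk := test R2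
  let i2 : R2 →+* Γ(T2.left, ⊤) := (Scheme.ΓSpecIso (CommRingCat.of R2)).inv.hom
  have pts : ∀ φ : Γ(E.left, ⊤) →ₐ[Γ(Q.left, ⊤)] R2, ∃ x : T2 ⟶ E, gl x = i2.comp φ.toRingHom :=
    fun φ => toAff T2 _ (RingHom.ext fun a => by
      rw [RingHom.comp_apply, show str E a = gl π (str Q a) from (str_comp π a).symm]
      refine Eq.trans ?_ (str_test R2 a).symm
      exact congrArg i2 (φ.commutes _))
  obtain ⟨x1, hx1⟩ := pts Algebra.TensorProduct.includeLeft
  obtain ⟨x2, hx2⟩ := pts Algebra.TensorProduct.includeRight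
  have e12 : x1 ≫ π = x2 ≫ π := ext_affine (by
    rw [gl_comp, gl_comp, hx1, hx2]
    refine RingHom.ext fun a => congrArg i2 ?_
    exact (AlgHom.commutes _ a).trans (AlgHom.commutes _ a).symm)
  have hu : ∀ c, ∃ a, gl π a = gl uu c := by
    intro c
    refine Amitsur.exists_of_invariant ?_
    apply Base.inv_injective R2
    have := congrArg (fun z : T2 ⟶ E => gl z c) (hinv x1 x2 e12)
    simp only [gl_comp, hx1, hx2, RingHom.comp_apply] at this
    exact this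
  choose v hv using hu
  have hπinj : Function.Injective (gl π) := by
    have : FaithfulSMul Γ(Q.left, ⊤) Γ(E.left, ⊤) := inferInstance
    exact FaithfulSMul.algebraMap_injective Γ(Q.left, ⊤) Γ(E.left, ⊤)
  let ψ : Γ(E.left, ⊤) →+* Γ(Q.left, ⊤) :=
    { toFun := v
      map_one' := hπinj (by rw [hv, map_one, map_one])
      map_mul' := fun a b => hπinj (by rw [hv, map_mul, map_mul, hv, hv])
      map_zero' := hπinj (by rw [hv, map_zero, map_zero])
      map_add' := fun a b => hπinj (by rw [hv, map_add, map_add, hv, hv]) }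
  obtain ⟨s, hs⟩ := toAff (X := E) Q ψ (RingHom.ext fun a => hπinj (by
    change gl π (v (str E a)) = _
    rw [hv]
    exact (str_comp uu a).trans (str_comp π a).symm))
  refine ⟨s, ext_affine (RingHom.ext fun a => hπinj ?_)⟩
  rw [gl_comp, RingHom.comp_apply, hs]
  change gl π (v (gl π a)) = _
  rw [hv]
  have := congrArg (fun z : E ⟶ Q => gl z a) huπ
  simp only [gl_comp, RingHom.comp_apply] at this
  rw [this]
  simp [gl]

omit [IsAffine Q.left] [IsAffine E.left] [Flat π.left] [Surjective π.left] in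
set_option backward.isDefEq.respectTransparency.types false in
/-- The total space of an extension by a Witt group is affine. -/
theorem isAffine_left [IsAffine Q.left] [Flat π.left] [Surjective π.left] [QuasiCompact E.hom]
    [IsMonHom π] {n : ℕ} (i : WittGrp.W p n Sk ⟶ E) [IsMonHom i] [Mono i]
    (hker : AlgGrp.IsKernel i π) : IsAffine E.left := by
  obtain ⟨D, hD⟩ := exists_diff π i hker
  have hw : i ≫ π = 1 := by rw [hker.w, Hom.one_def]
  let N := WittGrp.W p n Sk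
  let m : E ⊗ N ⟶ E := fst E N * (snd E N ≫ i)
  have hm : fst E N ≫ π = m ≫ π := by
    rw [MonObj.mul_comp, Category.assoc, hw, MonObj.comp_one, _root_.mul_one]
  have hpb : IsPullback (fst E N) m π π := by
    refine ⟨⟨hm⟩, ⟨PullbackCone.IsLimit.mk hm (fun s => lift s.fst (D.val s.fst s.snd s.condition))
      (fun s => lift_fst _ _) (fun s => ?_) (fun s l hl1 hl2 => ?_)⟩⟩
    · simp only [m, MonObj.comp_mul, lift_fst, lift_snd_assoc, hD]
      rw [_root_.mul_comm, inv_mul_cancel_right]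
    · apply CartesianMonoidalCategory.hom_ext
      · rw [lift_fst, hl1]
      · rw [lift_snd, ← cancel_mono i, hD]
        simp only [m, MonObj.comp_mul, hl1] at hl2
        rw [← hl2, mul_inv_cancel_comm, Category.assoc]
  have h := hpb.map (Over.forget Sk)
  haveI hN : IsAffineHom N.hom := isAffineHom_W
  haveI : IsAffineHom ((Over.forget Sk).map (fst E N)) :=
    MorphismProperty.pullback_fst (P := @IsAffineHom) E.hom N.hom hN
  haveI : QuasiCompact π.left := by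
    haveI : QuasiCompact (π.left ≫ Q.hom) := by rw [Over.w]; infer_instance
    exact QuasiCompact.of_comp π.left Q.hom
  haveI := FpqcDesc.descendsAlong_isAffineHom.{u}
  haveI : IsAffineHom π.left := MorphismProperty.of_isPullback_of_descendsAlong (P := @IsAffineHom)
    (Q := FpqcDesc.FPQC) h ⟨⟨‹Surjective π.left›, ‹Flat π.left›⟩, ‹QuasiCompact π.left›⟩ ‹_›
  exact isAffine_of_isAffineHom π.left

end Groth.Agent.WittExt.Section
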